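import Mathlib
import Cfsg.Agent.Lib.TwoGrp.Bicyc2
import Cfsg.Agent.Lib.TwoGrp.Rank2Fus

/-! Nonmetacyclic bicyclic `2`-groups: the derived subgroup as a module. -/

set_option autoImplicit false
set_option linter.unusedSectionVars false

namespace CfsgLib.Bicyc3

open Subgroup
open scoped commutatorElement

/-- The derived subgroup of a metabelian `2`-group as a module. -/
structure Mo {P W : Type*} [Group P] [AddCommGroup W] (e : W → P) (ρ : P → Module.End ℤ W) :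
    Prop where
  pg : IsPGroup 2 P
  add : ∀ a a', e (a + a') = e a * e a'
  inj : Function.Injective e
  conj : ∀ g a, g * e a * g⁻¹ = e (ρ g a)
  rng : ∀ g, g ∈ commutator P ↔ ∃ a, e a = g

/-- The structure of a nonmetacyclic bicyclic `2`-group `P`.  The derived subgroup is the image of
the additive group `W`, the three maximal subgroups are `M`, `N`, `N'`. -/
structure Su {P W : Type*} [Group P] [AddCommGroup W] (e : W → P) (ρ : P → Module.End ℤ W)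
    (ξ : Module.End ℤ W) (c : W) (x : P) (M N N' : Subgroup P) : Prop extends Mo e ρ where
  iM : M.index = 2
  iN : N.index = 2
  iN' : N'.index = 2
  rel : ∀ g, g ∈ N' ↔ (g ∈ M ↔ g ∈ N)
  xN : x ∈ N
  xM : x ∉ M
  phi : ∀ g ∈ M, g ∈ N → ∃ (k : ℤ) (a : W), g = (x ^ 2) ^ k * e a
  sq : ∀ g ∉ M, ∀ a, g ^ 2 ≠ e a
  exb : ∃ b ∈ M, b ∉ N ∧ ∃ a, b ^ 2 = e a
  mN : Cfsg.IsMetacyclic N
  mN' : Cfsg.IsMetacyclic N'
  nm : ¬ Cfsg.IsMetacyclic P
  xi : ∀ a, ρ x a = a + ξ a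
  xi2 : ∃ μ : ℤ, ∀ a, ξ (ξ a) = (2 * μ) • ξ a
  gen : ∀ a, ∃ i j : ℤ, a = i • c + j • ξ c
  out : ∀ w ∈ M, w ∉ N → (∃ ν : ℤ, ∀ a, ρ w a = -a + (2 * ν) • ξ a) ∧
    ∃ k : ℤ, x * w * x⁻¹ = e (c + k • ξ c) * w
  inn : ∀ g ∈ M, g ∈ N → ∃ ν : ℤ, ∀ a, ρ g a = a + (2 * ν) • ξ a

variable {P W : Type*} [Group P] [AddCommGroup W] {e : W → P} {ρ : P → Module.End ℤ W}
  {ξ : Module.End ℤ W} {c : W} {x : P} {M N N' : Subgroup P}

theorem comm_le_of_index {H : Subgroup P} (h : H.index = 2) : commutator P ≤ H := by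
  rw [commutator_def, commutator_le]
  intro a _ b _
  simp only [commutatorElement_def, mul_mem_iff_of_index_two h, inv_mem_iff]
  tauto

theorem frattini_le_of_index {H : Subgroup P} (h : H.index = 2) : frattini P ≤ H :=
  frattini_le_coatom (Core.isCoatom_of_index_prime (h ▸ Nat.prime_two))

/-- A subgroup that is cyclic modulo a normal subgroup. -/
theorem exists_gen_mod {C K : Subgroup P} [K.Normal] {y : P}
    (h : ∀ s ∈ C, ∃ k : ℤ, (y ^ k)⁻¹ * s ∈ K) : ∃ u ∈ C, ∀ s ∈ C, ∃ k : ℤ, (u ^ k)⁻¹ * s ∈ K := by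
  have hle : C.map (QuotientGroup.mk' K) ≤ zpowers (y : P ⧸ K) := by
    rintro _ ⟨s, hs, rfl⟩
    obtain ⟨k, hk⟩ := h s hs
    exact ⟨k, QuotientGroup.eq.2 hk⟩
  have hc : IsCyclic (C.map (QuotientGroup.mk' K)) := isCyclic_of_le hle
  obtain ⟨⟨_, u, hu, rfl⟩, hg⟩ := hc.exists_generator
  refine ⟨u, hu, fun s hs => ?_⟩
  obtain ⟨k, hk⟩ := hg ⟨_, s, hs, rfl⟩
  exact ⟨k, QuotientGroup.eq.1 (congrArg Subtype.val hk)⟩

theorem comm_of_cyc {C K : Subgroup P} [K.Normal] {y : P}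
    (h : ∀ s ∈ C, ∃ k : ℤ, (y ^ k)⁻¹ * s ∈ K)
    (hK : ∀ s ∈ C, s ∈ K → ∀ r ∈ C, Commute s r) {s r : P} (hs : s ∈ C) (hr : r ∈ C) :
    Commute s r := by
  obtain ⟨u, hu, h⟩ := exists_gen_mod h
  obtain ⟨k, hk⟩ := h s hs
  obtain ⟨l, hl⟩ := h r hr
  have h1 := hK _ (mul_mem (inv_mem (zpow_mem hu k)) hs) hk
  have h2 := hK _ (mul_mem (inv_mem (zpow_mem hu l)) hr) hl
  rw [← mul_inv_cancel_left (u ^ k) s]
  refine Commute.mul_left ?_ (h1 r hr)
  rw [← mul_inv_cancel_left (u ^ l) r]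
  exact ((Commute.refl u).zpow_zpow k l).mul_right (h2 _ (zpow_mem hu k)).symm

namespace Mo

variable (h : Mo e ρ)
include h

theorem zero : e 0 = 1 := by simpa using h.add 0 0

theorem neg (a : W) : e (-a) = (e a)⁻¹ := by
  rw [eq_inv_iff_mul_eq_one, ← h.add, neg_add_cancel, h.zero]

theorem sub (a a' : W) : e (a - a') = e a * (e a')⁻¹ := by rw [sub_eq_add_neg, h.add, h.neg]

theorem zsmul (k : ℤ) (a : W) : e (k • a) = e a ^ k :=
  map_zsmul (AddMonoidHom.mk' (fun a => Additive.ofMul (e a)) fun a b => congrArg _ (h.add a b)) k a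

theorem two (a : W) : e ((2 : ℤ) • a) = e a ^ 2 := by rw [h.zsmul, zpow_ofNat]

theorem eq_one {a : W} : e a = 1 ↔ a = 0 := by rw [← h.zero, h.inj.eq_iff]

theorem comm (a a' : W) : Commute (e a) (e a') := by
  rw [Commute, SemiconjBy, ← h.add, ← h.add, add_comm]

theorem mem (a : W) : e a ∈ commutator P := (h.rng _).2 ⟨a, rfl⟩

theorem der (g k : P) : ∃ a, g * k * g⁻¹ = e a * k := by
  obtain ⟨a, ha⟩ := (h.rng ⁅g, k⁆).1 (commutator_mem_commutator (mem_top g) (mem_top k))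
  exact ⟨a, by rw [ha, commutatorElement_def, inv_mul_cancel_right]⟩

theorem rho_mul (g k : P) (a : W) : ρ (g * k) a = ρ g (ρ k a) :=
  h.inj (by rw [← h.conj, ← h.conj, ← h.conj]; group)

theorem rho_e (a a' : W) : ρ (e a) a' = a' :=
  h.inj (by rw [← h.conj, (h.comm a a').eq, mul_inv_cancel_right])

theorem rho_eq_zero {g : P} {a : W} (ha : ρ g a = 0) : a = 0 := by
  have := h.conj g a
  rw [ha, h.zero, conj_eq_one_iff] at this
  exact h.eq_one.1 this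

theorem commute_iff {g : P} {a : W} : Commute g (e a) ↔ ρ g a = a := by
  rw [← h.inj.eq_iff, ← h.conj, mul_inv_eq_iff_eq_mul]; rfl

theorem conj_e (a : W) (g : P) : e a * g * (e a)⁻¹ = e (a - ρ g a) * g := by
  rw [h.sub, ← h.conj]; group

theorem inv_conj_e (a : W) (g : P) : g⁻¹ * (e a * g * (e a)⁻¹) = e (ρ g⁻¹ a - a) := by
  rw [h.sub, ← h.conj]; group

theorem eq_zero_of_odd {k : ℤ} (hk : Odd k) {a : W} (ha : k • a = 0) : a = 0 :=
  h.eq_one.1 (mem_bot.1 (TwoGrp.Bic.mem_of_odd h.pg hk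
    (by rw [← h.zsmul, ha, h.zero]; exact one_mem _)))

theorem rho_comm (g k : P) (a : W) : ρ g (ρ k a) = ρ k (ρ g a) := by
  obtain ⟨b, hb⟩ := h.der g k
  rw [← h.rho_mul, ← h.rho_mul k, show g * k = e b * (k * g) by rw [← mul_assoc, ← hb]; group,
    h.rho_mul, h.rho_e]

theorem rho_one (a : W) : ρ 1 a = a := by simpa [h.zero] using h.rho_e 0 a

theorem exists_smul_of_odd {k l : ℤ} (hk : Odd k) {a d : W} (ha : k • a = l • d) :
    ∃ m : ℤ, a = m • d := by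
  obtain ⟨m, hm⟩ := TwoGrp.Bic.mem_of_odd h.pg hk (a := e a) (H := zpowers (e d))
    ⟨l, by rw [← h.zsmul, ha, h.zsmul]⟩
  exact ⟨m, h.inj (by rw [h.zsmul, ← hm])⟩

/-- The image of an additive subgroup. -/
def im (T : AddSubgroup W) : Subgroup P where
  carrier := e '' T
  one_mem' := ⟨0, zero_mem T, h.zero⟩
  mul_mem' := by
    rintro _ _ ⟨a, ha, rfl⟩ ⟨b, hb, rfl⟩
    exact ⟨a + b, add_mem ha hb, h.add a b⟩
  inv_mem' := by
    rintro _ ⟨a, ha, rfl⟩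
    exact ⟨-a, neg_mem ha, h.neg a⟩

theorem mem_im {T : AddSubgroup W} {a : W} : e a ∈ h.im T ↔ a ∈ T :=
  ⟨fun ⟨_, hb, hba⟩ => h.inj hba ▸ hb, fun ha => ⟨a, ha, rfl⟩⟩

theorem normal_im {T : AddSubgroup W} (hT : ∀ g, ∀ a ∈ T, ρ g a ∈ T) : (h.im T).Normal :=
  ⟨by rintro _ ⟨a, ha, rfl⟩ g; rw [h.conj]; exact h.mem_im.2 (hT g a ha)⟩

theorem fin [Finite P] : Finite W := Finite.of_injective e h.inj

end Mo

namespace Su

variable (h : Su e ρ ξ c x M N N')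
include h

theorem eM (a : W) : e a ∈ M := comm_le_of_index h.iM (h.mem a)

theorem eN (a : W) : e a ∈ N := comm_le_of_index h.iN (h.mem a)

theorem eN' (a : W) : e a ∈ N' := comm_le_of_index h.iN' (h.mem a)

theorem xi_mem (a : W) : ∃ k : ℤ, ξ a = k • ξ c := by
  obtain ⟨μ, hμ⟩ := h.xi2
  obtain ⟨i, j, rfl⟩ := h.gen a
  exact ⟨i + j * (2 * μ), by rw [map_add, map_zsmul, map_zsmul, hμ]; module⟩

theorem eta_inj (ν : ℤ) {a : W} (ha : a = ν • ξ a) : a = 0 := by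
  obtain ⟨μ, hμ⟩ := h.xi2
  have h1 : ξ a = ν • ((2 * μ) • ξ a) := by
    conv_lhs => rw [ha, map_zsmul, hμ]
  have h2 : ξ a = 0 := h.eq_zero_of_odd (k := 1 - 2 * (ν * μ))
    (odd_one.sub_even (even_two_mul _)) (by linear_combination (norm := module) h1)
  rw [ha, h2, smul_zero]

/-- `M` centralizes the involutions of the derived subgroup. -/
theorem rho_V {g : P} (hg : g ∈ M) {v : W} (hv : (2 : ℤ) • v = 0) : ρ g v = v := by
  have h1 : (2 : ℤ) • ξ v = 0 := by rw [← map_zsmul, hv, map_zero]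
  by_cases hN : g ∈ N
  · obtain ⟨ν, hν⟩ := h.inn g hg hN
    rw [hν]; linear_combination (norm := module) ν • h1
  · obtain ⟨ν, hν⟩ := (h.out g hg hN).1
    rw [hν]; linear_combination (norm := module) ν • h1 - hv

theorem commute_V {g : P} (hg : g ∈ M) {v : W} (hv : (2 : ℤ) • v = 0) : Commute g (e v) :=
  h.commute_iff.2 (h.rho_V hg hv)

/-- `M` acts trivially on `Ω_{i+1}/Ω_i`. -/
theorem rho_sub {g : P} (hg : g ∈ M) (k : ℤ) {a : W} (ha : (k * 2) • a = 0) :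
    k • (ρ g a - a) = 0 := by
  have h1 : (k * 2) • ξ a = 0 := by rw [← map_zsmul, ha, map_zero]
  by_cases hN : g ∈ N
  · obtain ⟨ν, hν⟩ := h.inn g hg hN
    rw [hν]; linear_combination (norm := module) ν • h1
  · obtain ⟨ν, hν⟩ := (h.out g hg hN).1
    rw [hν]; linear_combination (norm := module) ν • h1 - ha

theorem rho_sub_two {g : P} (hg : g ∈ M) (a : W) : ∃ a', ρ g a - a = (2 : ℤ) • a' := by
  by_cases hN : g ∈ N
  · obtain ⟨ν, hν⟩ := h.inn g hg hN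
    exact ⟨ν • ξ a, by rw [hν]; module⟩
  · obtain ⟨ν, hν⟩ := (h.out g hg hN).1
    exact ⟨ν • ξ a - a, by rw [hν]; module⟩

theorem smul_eq_zero_of_out {w : P} (hw : w ∈ M) (hN : w ∉ N) (k : ℤ) {a : W}
    (ha : k • (a - ρ w a) = 0) : (k * 2) • a = 0 := by
  obtain ⟨ν, hν⟩ := (h.out w hw hN).1
  refine h.eta_inj ν ?_
  rw [hν] at ha
  rw [map_zsmul]
  linear_combination (norm := module) ha

theorem V_of_commute {w : P} (hw : w ∈ M) (hN : w ∉ N) {a : W} (ha : Commute w (e a)) :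
    (2 : ℤ) • a = 0 := by
  simpa using h.smul_eq_zero_of_out hw hN 1 (a := a) (by rw [h.commute_iff.1 ha]; simp)

variable [Finite P]

theorem exists_conj_two {w : P} (hw : w ∈ M) (hN : w ∉ N) (a : W) :
    ∃ a', a' - ρ w a' = (2 : ℤ) • a := by
  have := h.fin
  obtain ⟨ν, hν⟩ := (h.out w hw hN).1
  have hi : Function.Injective (1 - ν • ξ : Module.End ℤ W) := by
    rw [injective_iff_map_eq_zero]
    intro a ha
    exact h.eta_inj ν (by simpa [sub_eq_zero] using ha)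
  obtain ⟨a', ha'⟩ := Finite.surjective_of_injective hi a
  refine ⟨a', ?_⟩
  rw [hν, ← ha']
  simp only [LinearMap.sub_apply, Module.End.one_apply, LinearMap.smul_apply]
  module

/-- The conjugacy class of an element of `M` outside the Frattini subgroup is a coset of the derived
subgroup. -/
theorem exists_conj {w : P} (hw : w ∈ M) (hN : w ∉ N) (a : W) : ∃ g : P, g * w * g⁻¹ = e a * w := by
  obtain ⟨μ, hμ⟩ := h.xi2
  obtain ⟨k, hk⟩ := (h.out w hw hN).2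
  have h1 : ∀ a a' a'' : W, (∃ g : P, g * w * g⁻¹ = e a * w) → a'' = a + (2 : ℤ) • a' →
      ∃ g : P, g * w * g⁻¹ = e a'' * w := by
    rintro a a' _ ⟨g, hg⟩ rfl
    obtain ⟨b, hb⟩ := h.exists_conj_two hw hN a'
    refine ⟨e b * g, ?_⟩
    rw [show e b * g * w * (e b * g)⁻¹ = e b * (g * w * g⁻¹) * (e b)⁻¹ by group, hg, ← mul_assoc,
      (h.comm b a).eq, h.add, ← hb, mul_assoc (e a), mul_assoc (e a), h.conj_e, mul_assoc]
  have h2 : ∀ a : W, (∃ g : P, g * w * g⁻¹ = e a * w) →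
      ∃ g : P, g * w * g⁻¹ = e (a + ξ a + (c + k • ξ c)) * w := by
    rintro a ⟨g, hg⟩
    refine ⟨x * g, ?_⟩
    rw [show x * g * w * (x * g)⁻¹ = x * (g * w * g⁻¹) * x⁻¹ by group, hg, h.add, ← h.xi, ← h.conj,
      mul_assoc (x * e a * x⁻¹), ← hk]
    group
  have t0 : ∃ g : P, g * w * g⁻¹ = e 0 * w := ⟨1, by simp [h.zero]⟩
  have t1 : ∃ g : P, g * w * g⁻¹ = e (c + k • ξ c) * w := ⟨x, hk⟩
  have t2 : ∃ g : P, g * w * g⁻¹ = e (ξ c) * w := h1 _ (-(c + k • ξ c) - (k * μ) • ξ c) _ (h2 _ t1)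
    (by rw [map_add, map_zsmul, hμ]; module)
  have t3 : ∃ g : P, g * w * g⁻¹ = e (c + (k + 1) • ξ c) * w := h1 _ (-(μ • ξ c)) _ (h2 _ t2)
    (by rw [hμ]; module)
  obtain ⟨i, j, rfl⟩ := h.gen a
  rcases Int.even_or_odd' i with ⟨i, rfl | rfl⟩
  · rcases Int.even_or_odd' j with ⟨j, rfl | rfl⟩
    · exact h1 _ (i • c + j • ξ c) _ t0 (by module)
    · exact h1 _ (i • c + j • ξ c) _ t2 (by module)
  · rcases Int.even_or_odd' (j - k) with ⟨l, hl | hl⟩
    · exact h1 _ (i • c + l • ξ c) _ t1 (by rw [show j = k + 2 * l by omega]; module)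
    · exact h1 _ (i • c + l • ξ c) _ t3 (by rw [show j = k + 2 * l + 1 by omega]; module)

theorem phi_le_frattini {g : P} (hg : g ∈ M) (hN : g ∈ N) : g ∈ frattini P := by
  have : Fact (Nat.Prime 2) := ⟨Nat.prime_two⟩
  obtain ⟨k, a, rfl⟩ := h.phi g hg hN
  exact mul_mem (zpow_mem (PGroup.pow_mem_frattini h.pg x) k)
    (PGroup.commutator_le_frattini h.pg (h.mem a))

theorem le_cases {Q : Subgroup P} (hQ : Q ≠ ⊤) : Q ≤ N ∨ Q ≤ N' ∨ Q ≤ M := by
  obtain ⟨K, hK, hQK⟩ := (eq_top_or_exists_le_coatom Q).resolve_left hQ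
  have hΦ : ∀ g ∈ M, g ∈ N → g ∈ K := fun g hg hN => frattini_le_coatom hK (h.phi_le_frattini hg hN)
  have h1 : ∀ u v : P, (u ∈ M ↔ v ∈ M) → (u ∈ N ↔ v ∈ N) → u ∈ K → v ∈ K := fun u v a b hu => by
    have := hΦ (u⁻¹ * v) (by rwa [mul_mem_iff_of_index_two h.iM, inv_mem_iff])
      (by rwa [mul_mem_iff_of_index_two h.iN, inv_mem_iff])
    simpa using mul_mem hu this
  by_contra hn
  simp only [not_or, SetLike.not_le_iff_exists] at hn
  obtain ⟨⟨a, ha, ha'⟩, ⟨b, hb, hb'⟩, ⟨d, hd, hd'⟩⟩ := hn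
  rw [h.rel] at hb'
  have h2 : ∀ u v : P, u ∈ K → v ∈ K → u ∉ M → v ∈ M → v ∉ N → False := fun u v hu hv a b c => by
    refine hK.1 (eq_top_iff.2 fun g _ => ?_)
    by_cases g1 : g ∈ M
    · by_cases g2 : g ∈ N
      · exact hΦ g g1 g2
      · exact h1 v g (iff_of_true b g1) (iff_of_false c g2) hv
    · by_cases g2 : u ∈ N ↔ g ∈ N
      · exact h1 u g (iff_of_false a g1) g2 hu
      · refine h1 (u * v) g ?_ ?_ (mul_mem hu hv)
        · simp [mul_mem_iff_of_index_two h.iM, a, b, g1]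
        · rw [mul_mem_iff_of_index_two h.iN]; tauto
  by_cases a1 : a ∈ M
  · exact h2 d a (hQK hd) (hQK ha) hd' a1 ha'
  · by_cases b1 : b ∈ M
    · exact h2 d b (hQK hd) (hQK hb) hd' b1 fun b2 => hb' (iff_of_true b1 b2)
    · refine h2 d (a * b) (hQK hd) (mul_mem (hQK ha) (hQK hb)) hd' ?_ ?_
      · simp [mul_mem_iff_of_index_two h.iM, a1, b1]
      · rw [mul_mem_iff_of_index_two h.iN]; tauto

/-- The centralizer in the Frattini subgroup of an element of `M` outside is abelian. -/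
theorem cent_comm {w : P} (hw : w ∈ M) (hN : w ∉ N) {s r : P} (hs : s ∈ M) (hs' : s ∈ N)
    (hsw : Commute s w) (hr : r ∈ M) (hr' : r ∈ N) (hrw : Commute r w) : Commute s r := by
  refine comm_of_cyc (C := M ⊓ N ⊓ centralizer {w}) (K := commutator P) (y := x ^ 2) ?_ ?_
    ⟨⟨hs, hs'⟩, mem_centralizer_singleton_iff.2 hsw⟩ ⟨⟨hr, hr'⟩, mem_centralizer_singleton_iff.2 hrw⟩
  · rintro s ⟨⟨h1, h2⟩, -⟩
    obtain ⟨k, a, rfl⟩ := h.phi s h1 h2
    exact ⟨k, by simpa using h.mem a⟩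
  · rintro s ⟨-, h1⟩ h2 r ⟨⟨h3, -⟩, -⟩
    obtain ⟨a, rfl⟩ := (h.rng s).1 h2
    exact (h.commute_V h3 (h.V_of_commute hw hN
      (Commute.symm (mem_centralizer_singleton_iff.1 h1)))).symm

theorem mem_M_iff {g : P} : g ∈ M ↔ ∃ k : P, g ^ 2 * ((k ^ 2) ^ 2)⁻¹ ∈ commutator P := by
  have hq : ∀ g : P, g ∈ commutator P ↔ Abelianization.of g = 1 := fun g => by
    rw [← MonoidHom.mem_ker, Abelianization.ker_of]
  have he : ∀ a, Abelianization.of (e a) = 1 := fun a => (hq _).1 (h.mem a)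
  have h0 : ∀ g ∈ M, g ∈ N → ∃ k : P, Abelianization.of g = Abelianization.of k ^ 2 :=
    fun g hg hN => by
      obtain ⟨k, a, rfl⟩ := h.phi g hg hN
      exact ⟨x ^ k, by simp only [map_mul, map_zpow, map_pow, he, mul_one]; group⟩
  constructor
  · intro hg
    by_cases hN : g ∈ N
    · obtain ⟨k, hk⟩ := h0 g hg hN
      exact ⟨k, by simp [hq, hk]⟩
    · obtain ⟨b, hb, hb', a, ha⟩ := h.exb
      obtain ⟨k, hk⟩ := h0 (b * g) (mul_mem hb hg) (by simp [mul_mem_iff_of_index_two h.iN, hN, hb'])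
      have h1 := congrArg Abelianization.of ha
      rw [he, map_pow] at h1
      refine ⟨k, ?_⟩
      simp only [hq, map_mul, map_pow, map_inv] at hk ⊢
      rw [← hk, mul_pow, h1, one_mul, mul_inv_cancel]
  · rintro ⟨k, hk⟩
    by_contra hg
    obtain ⟨a, ha⟩ := (h.rng ((g * (k ^ 2)⁻¹) ^ 2)).1 (by
      simp only [hq, map_mul, map_pow, map_inv] at hk ⊢
      rw [mul_pow, inv_pow, hk])
    exact h.sq _ (by simp [mul_mem_iff_of_index_two h.iM, hg, sq_mem_of_index_two h.iM]) a ha.symm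

theorem isPGroup_aut : IsPGroup 2 (MulAut P) := by
  have : Fact (Nat.Prime 2) := ⟨Nat.prime_two⟩
  refine TwoGrp.isPGroup_two_of_odd_eq_one fun β hβ => ?_
  have hc : (orderOf β).Coprime 2 := (Nat.coprime_two_right).2 hβ
  have h1 : ∀ (β : MulAut P), ∀ g ∈ M, β g ∈ M := fun β g hg => by
    obtain ⟨k, hk⟩ := h.mem_M_iff.1 hg
    refine h.mem_M_iff.2 ⟨β k, ?_⟩
    simpa using Fusion.aInv_commutator ⊤ β (mem_top β) _ hk
  have h2 : ∀ g, β g ∈ M ↔ g ∈ M := fun g => ⟨fun hg => by simpa using h1 β⁻¹ _ hg, h1 β g⟩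
  have h3 : ∀ g ∈ M, (g ∈ frattini P ↔ g ∈ N) := fun g hg =>
    ⟨fun hh => frattini_le_of_index h.iN hh, h.phi_le_frattini hg⟩
  refine Fusion.eq_one_of_stabOn_frattini h.pg hc (Fusion.StabOn.trans_of_coprime h.pg hc
    (frattini_le_of_index h.iM) (fun g hg => ?_) fun g _ => ?_)
  · rw [h3 _ (mul_mem (inv_mem hg) (h1 β g hg)), mul_mem_iff_of_index_two h.iN, inv_mem_iff,
      ← h3 _ hg, ← h3 _ (h1 β g hg), (Fusion.aInv_frattini ⊤).mem_iff (mem_top β)]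
  · rw [mul_mem_iff_of_index_two h.iM, inv_mem_iff, h2]

end Su

end CfsgLib.Bicyc3
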