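import Mathlib
import Cfsg.Agent.Lib.Bicyc3.Su
import Cfsg.Agent.Lib.Fusion.AutPair
import Cfsg.Agent.Lib.Fusion.MetaAut
import Cfsg.Agent.Lib.Fusion.Top
import Cfsg.Agent.Lib.TwoGrp.FusCand2

/-! Automizers of essential `2`-subgroups: pairs of involutions, rank at most three. -/

set_option autoImplicit false
set_option linter.unusedSectionVars false

namespace CfsgLib.Bicyc3

open Subgroup Cfsg Cfsg.FusionSystem Fusion

section Aut

variable {E : Type*} [Group E] [Finite E] {G U H : Subgroup (MulAut E)} {u g : MulAut E}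

theorem ess_key (h : EssAut 2 G U H) (hu : u ∈ U) (huI : u ∉ Inn E) (hg : g ∈ G) (hgH : g ∉ H) :
    ∃ β : MulAut E, Odd (orderOf β) ∧ β ≠ 1 ∧ ∀ X Y : Subgroup E, X ≤ Y → StabOn u X Y →
      StabOn (g * u * g⁻¹) X Y → StabOn β X Y := by
  have : Fact (Nat.Prime 2) := ⟨Nat.prime_two⟩
  have := finite_mulAut' E
  by_contra hn
  push Not at hn
  have hG := h.U_le_A hu
  refine h.conj_notMem hg hgH hu huI (h.le_of_isPGroup (R := zpowers u ⊔ zpowers (g * u * g⁻¹))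
    (isPGroup_of_forall_coprime_eq_one fun β hβ hc => by_contra fun h1 => ?_)
    (sup_le (zpowers_le.2 hG) (zpowers_le.2 (mul_mem (mul_mem hg hG) (inv_mem hg))))
    (mem_sup_left (mem_zpowers u)) (h.U_le hu) huI (mem_sup_right (mem_zpowers _)))
  obtain ⟨X, Y, hXY, h2, h3, h4⟩ := hn β (Nat.coprime_two_right.1 hc) h1
  have hY : AInv (autStab Y) Y := aInv_iff_le_autStab.2 le_rfl
  refine h4 (mem_stabSub.1 ((sup_le (zpowers_le.2 ?_) (zpowers_le.2 ?_) :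
    _ ≤ stabSub (autStab Y) X hY) hβ)).2
  · exact mem_stabSub.2 ⟨mem_autStab_of_finite fun y hy => h2.apply_mem hXY hy, h2⟩
  · exact mem_stabSub.2 ⟨mem_autStab_of_finite fun y hy => h3.apply_mem hXY hy, h3⟩

theorem ess_pair (h : EssAut 2 G U H) (hE : IsPGroup 2 E) (hu : u ∈ U) (huI : u ∉ Inn E)
    (hg : g ∈ G) (hgH : g ∉ H) {B W X : Subgroup E} [B.Normal] (hB : B ≤ frattini E)
    (hBg : ∀ y ∈ B, g y ∈ B) (hWg : ∀ y, g y ∈ W ↔ y ∈ W) (hBW : B ≤ W) (hWX : W ≤ X)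
    (h1 : StabOn u B W) (h2 : StabOn u W X) (h3 : StabOn u X ⊤) : ∃ q, g (q⁻¹ * u q) ∉ X := by
  have : Fact (Nat.Prime 2) := ⟨Nat.prime_two⟩
  by_contra hn
  push Not at hn
  obtain ⟨β, hβ, hβ1, hs⟩ := ess_key h hu huI hg hgH
  have hc : (orderOf β).Coprime 2 := Nat.coprime_two_right.2 hβ
  have e : ∀ y, y⁻¹ * (g * u * g⁻¹) y = g ((g⁻¹ y)⁻¹ * u (g⁻¹ y)) := fun y => by simp
  have hW : W ≤ X ⊓ X.comap (g⁻¹).toMonoidHom := fun y hy =>
    ⟨hWX hy, hWX ((hWg _).1 (by simpa using hy))⟩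
  have hY : StabOn (g * u * g⁻¹) (X ⊓ X.comap (g⁻¹).toMonoidHom) ⊤ := fun y _ => by
    rw [e]
    exact ⟨hn _, by simpa using h3 (g⁻¹ y) (mem_top _)⟩
  have s1 := hs B W hBW h1 fun y hy => e y ▸ hBg _ (h1 _ ((hWg _).1 (by simpa using hy)))
  have s2 := hs W _ hW (h2.mono le_rfl inf_le_left) fun y hy => e y ▸ (hWg _).2 (h2 _ hy.2)
  have s3 := hs _ X inf_le_left (h2.mono hW le_rfl) (hY.mono le_rfl le_top)
  have s4 := hs X ⊤ le_top h3 (hY.mono inf_le_left le_rfl)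
  exact hβ1 (eq_one_of_stabOn_frattini hE hc ((((s1.trans_of_coprime hE hc hBW s2).trans_of_coprime
    hE hc (hBW.trans hW) s3).trans_of_coprime hE hc (hBW.trans hWX) s4).mono hB le_rfl))

/-- Rank at most three: the outer automizer in the Sylow subgroup has order two. -/
theorem ess_two (h : EssAut 2 G U H) (hE : IsPGroup 2 E) (h8 : (frattini E).index ∣ 8)
    {u₁ u₂ : MulAut E} (h1 : u₁ ∈ U) (h1' : u₁ ∉ Inn E) (h2 : u₂ ∈ U) (h2' : u₂ ∉ Inn E) :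
    u₁⁻¹ * u₂ ∈ Inn E := by
  have : Fact (Nat.Prime 2) := ⟨Nat.prime_two⟩
  obtain ⟨τ, hτ, hτI, hτ2⟩ := h.exists_pow_mem
  have hΦ : ∀ (α : MulAut E) y, α y ∈ frattini E ↔ y ∈ frattini E := fun α y =>
    (aInv_frattini ⊤).mem_iff (mem_top α)
  have hcm : ∀ a b : E ⧸ frattini E, a * b = b * a := fun a b => by
    obtain ⟨a, rfl⟩ := QuotientGroup.mk_surjective a
    obtain ⟨b, rfl⟩ := QuotientGroup.mk_surjective b
    refine QuotientGroup.eq.2 (PGroup.commutator_le_frattini hE ?_)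
    simpa [commutatorElement_def, mul_assoc, commutator_def] using
      commutator_mem_commutator (mem_top b⁻¹) (mem_top a⁻¹)
  let δ : E →* E ⧸ frattini E := MonoidHom.mk' (fun q => ((q⁻¹ * τ q : E) : E ⧸ frattini E))
    fun a b => by
      simp only [map_mul, mul_inv_rev, QuotientGroup.mk_mul]
      rw [mul_assoc, ← mul_assoc ((a⁻¹ : E) : E ⧸ frattini E), hcm, mul_assoc, hcm (τ b : E)]
  have hX : ∀ q, q ∈ δ.ker ↔ q⁻¹ * τ q ∈ frattini E := fun q => QuotientGroup.eq_one_iff _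
  have hΦX : frattini E ≤ δ.ker := fun q hq => (hX q).2 (mul_mem (inv_mem hq) ((hΦ _ _).2 hq))
  have hδ : ∀ q, q⁻¹ * τ q ∈ δ.ker := fun q => by
    obtain ⟨k, hk⟩ := hτ2
    have e : τ (τ q) = k * q * k⁻¹ := by
      rw [← MulAut.mul_apply, ← pow_two, ← hk]; rfl
    rw [MonoidHom.mem_ker, map_mul, map_inv, inv_mul_eq_one]
    change ((q⁻¹ * τ q : E) : E ⧸ frattini E) = (((τ q)⁻¹ * τ (τ q) : E) : E ⧸ frattini E)
    have hs : ∀ a : E, ((a⁻¹ : E) : E ⧸ frattini E) = a := fun a => QuotientGroup.eq.2 (by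
      simpa [pow_two] using PGroup.pow_mem_frattini hE a)
    rw [e, QuotientGroup.mk_mul, QuotientGroup.mk_mul, QuotientGroup.mk_mul, QuotientGroup.mk_mul,
      hcm (k : E ⧸ frattini E), mul_assoc (q : E ⧸ frattini E) k, ← QuotientGroup.mk_mul _ k,
      mul_inv_cancel, QuotientGroup.mk_one, mul_one, hs, hs, hcm]
  have hi : δ.ker.index = 2 := by
    have a1 : δ.ker.index ∣ (frattini E).relIndex δ.ker := by
      have e := relIndex_ker δ.ker (QuotientGroup.mk' (frattini E))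
      rw [QuotientGroup.ker_mk'] at e
      rw [index_ker, e]
      refine card_dvd_of_le ?_
      rintro _ ⟨q, rfl⟩
      exact ⟨_, hδ q, rfl⟩
    have a2 : δ.ker.index * δ.ker.index ∣ 8 :=
      (mul_dvd_mul_right a1 _).trans (relIndex_mul_index hΦX ▸ h8)
    have a3 : δ.ker.index ≠ 1 := fun e => hτI (h.mem_Inn_of_stabOn hE (h.U_le_A hτ)
      fun q _ => (hX q).1 (index_eq_one.1 e ▸ mem_top q))
    have a4 := Nat.le_of_dvd (by norm_num) ((Dvd.intro _ rfl).trans a2)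
    generalize δ.ker.index = n at a2 a3 a4
    interval_cases n <;> simp_all
  obtain ⟨q₀, hq₀⟩ : ∃ q, q ∉ δ.ker := by
    by_contra hn
    push Not at hn
    rw [(eq_top_iff' _).2 hn, index_top] at hi
    omega
  have hz : ∀ g ∈ G, g ∉ H → g (q₀⁻¹ * τ q₀) ∉ δ.ker := fun g hg hgH hz => by
    obtain ⟨q, hq⟩ := ess_pair h hE hτ hτI hg hgH (B := frattini E) (W := frattini E) (X := δ.ker)
      le_rfl (fun y hy => (hΦ g y).2 hy) (hΦ g) le_rfl hΦX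
      (stabOn_of_inv fun y hy => (hΦ τ y).2 hy) (fun y hy => (hX y).1 hy) fun y _ => hδ y
    refine hq ?_
    by_cases hq1 : q ∈ δ.ker
    · exact hΦX ((hΦ g _).2 ((hX q).1 hq1))
    · have e : δ q₀ = δ q := by
        rw [← inv_mul_eq_one, ← map_inv, ← map_mul, ← MonoidHom.mem_ker,
          mul_mem_iff_of_index_two hi, inv_mem_iff]
        exact iff_of_false hq₀ hq1
      have := mul_mem hz (hΦX ((hΦ g _).2 (QuotientGroup.eq.1 e)))
      rwa [← map_mul, mul_inv_cancel_left] at this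
  obtain ⟨g, hg, hgH⟩ := h.exists_notMem
  obtain ⟨z, hzX, hz⟩ : ∃ z ∈ δ.ker, ∀ g ∈ G, g ∉ H → g z ∉ δ.ker := ⟨_, hδ q₀, hz⟩
  generalize δ.ker = X at hΦX hi hzX hz
  have hi' : (X.comap (g⁻¹).toMonoidHom).index = 2 := by
    rw [index_comap_of_surjective _ (g⁻¹).surjective, hi]
  have hX' : ∀ y, y ∈ X.comap (g⁻¹).toMonoidHom ↔ g⁻¹ y ∈ X := fun y => Iff.rfl
  have b1 : ∀ u ∈ U, u (g z) ∉ X := fun u hu => hz (u * g) (mul_mem (h.U_le_A hu) hg)
    fun hh => hgH ((Subgroup.mul_mem_cancel_left _ (h.U_le hu)).1 hh)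
  have b2 : ∀ u ∈ U, u ∉ Inn E → g⁻¹ (u (g z)) ∉ X := fun u hu huI => hz (g⁻¹ * u * g)
    (mul_mem (mul_mem (inv_mem hg) (h.U_le_A hu)) hg)
    (by simpa using h.conj_notMem (inv_mem hg) (fun hh => hgH (inv_mem_iff.1 hh)) hu huI)
  have hK : (frattini E).relIndex (X ⊓ X.comap (g⁻¹).toMonoidHom) ∣ 2 := by
    have := relIndex_mul_index (le_inf hΦX (frattini_le_of_index hi'))
    rw [index_inf_eq_sq hE hi hi' fun e => b1 1 (one_mem _) (by
      rw [e, hX']; simpa using hzX)] at this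
    exact Nat.dvd_of_mul_dvd_mul_right (by norm_num : 0 < 2 ^ 2) (this ▸ h8)
  have b3 : ∀ u ∈ U, u ∉ Inn E → ∀ v ∈ U, v ∉ Inn E → u⁻¹ * v ∉ Inn E →
      (u (g z))⁻¹ * v (g z) ∈ X ⊓ X.comap (g⁻¹).toMonoidHom ∧
        (u (g z))⁻¹ * v (g z) ∉ frattini E := fun u hu huI v hv hvI huv => by
    refine ⟨mem_inf.2 ⟨?_, ?_⟩, fun hh => b2 _ (mul_mem (inv_mem hu) hv) huv ?_⟩
    · simp [mul_mem_iff_of_index_two hi, b1 u hu, b1 v hv]
    · rw [mul_mem_iff_of_index_two hi', inv_mem_iff, hX', hX']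
      exact iff_of_false (b2 u hu huI) (b2 v hv hvI)
    · have := mul_mem hzX (hΦX ((hΦ (g⁻¹ * u⁻¹) _).2 hh))
      simpa using this
  have b4 : ∀ u ∈ U, u ∉ Inn E → ∀ v ∈ U, v ∉ Inn E → ∀ w ∈ U, w ∉ Inn E → u⁻¹ * v ∉ Inn E →
      v⁻¹ * w ∉ Inn E → u⁻¹ * w ∉ Inn E → False := fun u hu huI v hv hvI w hw hwI c1 c2 c3 => by
    obtain ⟨d1, d2⟩ := b3 u hu huI v hv hvI c1
    obtain ⟨d3, d4⟩ := b3 v hv hvI w hw hwI c2
    refine (b3 u hu huI w hw hwI c3).2 ?_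
    rcases (Nat.dvd_prime Nat.prime_two).1 hK with e | e
    · exact absurd (relIndex_eq_one.1 e d1) d2
    · have := (mul_mem_iff_of_index_two e (a := ⟨_, d1⟩) (b := ⟨_, d3⟩)).2 (iff_of_false d2 d4)
      rw [mem_subgroupOf, coe_mul] at this
      simpa [mul_assoc] using this
  by_contra hn
  by_cases hs : u₁ * u₁ ∈ Inn E
  · refine b4 u₁ h1 h1' u₂ h2 h2' (u₁ * u₂) (mul_mem h1 h2) (fun hh => hn ?_) hn (fun hh => h1' ?_)
      (by simpa using h2')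
    · simpa [mul_assoc] using mul_mem (inv_mem hs) hh
    · simpa [mul_assoc] using (innNormal E).conj_mem _ hh u₂
  · refine b4 u₁ h1 h1' (u₁ * u₁) (mul_mem h1 h1) hs u₁⁻¹ (inv_mem h1) (by simpa using h1')
      (by simpa using h1') (fun hh => h1' ?_) (fun hh => hs (by simpa using inv_mem hh))
    exact TwoGrp.Bic.mem_of_odd h.isPGroup (a := ⟨u₁, h1⟩) (H := (Inn E).subgroupOf U) (i := -3)
      (by decide) (by
        rw [mem_subgroupOf]
        convert hh using 1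
        push_cast
        group)

end Aut

section Sub

variable {P : Type*} [Group P] [Finite P] {Q : Subgroup P} {G H : Subgroup (MulAut Q)}
  {g β : MulAut Q} {t : P}

theorem fix_of_mul (hP : IsPGroup 2 P) (hβ : Odd (orderOf β)) {y : P} (hy : y ∈ Q)
    (h : extAut β (y⁻¹ * extAut β y) = y⁻¹ * extAut β y) : extAut β y = y := by
  have h1 : y⁻¹ * extAut β y ∈ Q := mul_mem (inv_mem hy) (extAut_mem β hy)
  have := TwoGrp.aut_fix_of_mul (hP.to_subgroup Q) hβ (g := ⟨y, hy⟩) (a := ⟨_, h1⟩)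
    (Subtype.ext ((extAut_apply β h1).symm.trans h))
    (Subtype.ext ((extAut_apply β hy).symm.trans (by simp)))
  rw [extAut_apply β hy, this]

/-- An automorphism of odd order of a metacyclic `2`-group other than the quaternion group is
detected on the involutions. -/
theorem fix_of_meta (hP : IsPGroup 2 P) (hβ : Odd (orderOf β)) {R : Subgroup P} (hR : R ≤ Q)
    (hm : IsMetacyclic R) (hi : ∀ y ∈ R, extAut β y ∈ R)
    (hf : ∀ y ∈ R, y * y = 1 → extAut β y = y)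
    (hq : (∀ a ∈ R, ∀ b ∈ R, a * b = b * a) ∨
      ∃ a ∈ R, ∃ b ∈ R, a * a = 1 ∧ b * b = 1 ∧ a ≠ 1 ∧ b ≠ 1 ∧ a ≠ b) :
    ∀ y ∈ R, extAut β y = y := by
  have : Fact (Nat.Prime 2) := ⟨Nat.prime_two⟩
  have hh := (isHomOn_extAut β).mono hR
  obtain ⟨γ, hγ⟩ := hh.exists_aut (injOn_extAut β R) (hh.img_eq_self (injOn_extAut β R) hi)
  have h1 : ∀ n : ℕ, ∀ y ∈ R, extAut (γ ^ n) y = extAut (β ^ n) y := fun n => by
    induction n with
    | zero => intro y _; simp only [pow_zero, extAut_one_apply]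
    | succ n ih =>
      intro y hy
      rw [pow_succ, pow_succ, extAut_mul_apply, extAut_mul_apply, ih _ (extAut_mem γ hy), hγ y hy]
  have h2 : Odd (orderOf γ) := hβ.of_dvd_nat (orderOf_dvd_of_pow_eq_one (aut_eq_one fun y hy => by
    rw [h1 _ y hy, pow_orderOf_eq_one, extAut_one_apply]))
  suffices h : γ = 1 from fun y hy => by rw [← hγ y hy, h, extAut_one_apply]
  have h3 : (∀ a ∈ R, ∀ b ∈ R, a * b = b * a) → γ = 1 := fun hc =>
    TwoGrp.extAut_eq_of_fix_invol (hP.to_subgroup R) hc h2 fun a ha h => by rw [hγ a ha, hf a ha h]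
  rcases autDiag_of_isMetacyclic (hP.to_subgroup R) hm with ⟨n, -, ⟨φ⟩⟩ | ⟨-, ⟨φ⟩⟩ | h4
  · exact h3 fun a ha b hb => congrArg Subtype.val
      (φ.injective (a₁ := ⟨a, ha⟩ * ⟨b, hb⟩) (a₂ := ⟨b, hb⟩ * ⟨a, ha⟩) (by
        rw [map_mul, map_mul, mul_comm]))
  · rcases hq with hq | ⟨a, ha, b, hb, a2, b2, a1, b1, ab⟩
    · exact h3 hq
    · have key : ∀ a b : QuaternionGroup 2, a * a = 1 → b * b = 1 → a ≠ 1 → b ≠ 1 → a = b := by
        decide
      refine absurd (congrArg Subtype.val (φ.injective (key (φ ⟨a, ha⟩) (φ ⟨b, hb⟩) ?_ ?_ ?_ ?_))) ab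
      · rw [← map_mul, map_eq_one_iff _ φ.injective]; exact Subtype.ext a2
      · rw [← map_mul, map_eq_one_iff _ φ.injective]; exact Subtype.ext b2
      · rw [Ne, map_eq_one_iff _ φ.injective]; exact fun e => a1 (congrArg Subtype.val e)
      · rw [Ne, map_eq_one_iff _ φ.injective]; exact fun e => b1 (congrArg Subtype.val e)
  · exact eq_one_of_pow_coprime h4.isPGroup (Nat.coprime_two_right.2 h2) (pow_orderOf_eq_one γ)

/-- The Frattini subgroup of a subgroup, in the ambient group. -/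
abbrev Fr (Q : Subgroup P) : Subgroup P := (frattini Q).map Q.subtype

theorem sq_mem_Fr (hP : IsPGroup 2 P) {a : P} (ha : a ∈ Q) : a ^ 2 ∈ Fr Q :=
  have : Fact (Nat.Prime 2) := ⟨Nat.prime_two⟩
  ⟨_, PGroup.pow_mem_frattini (hP.to_subgroup Q) ⟨a, ha⟩, rfl⟩

theorem comm_mem_Fr (hP : IsPGroup 2 P) {a b : P} (ha : a ∈ Q) (hb : b ∈ Q) :
    a * b * a⁻¹ * b⁻¹ ∈ Fr Q :=
  have : Fact (Nat.Prime 2) := ⟨Nat.prime_two⟩
  ⟨_, PGroup.commutator_le_frattini (hP.to_subgroup Q)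
    (commutator_mem_commutator (mem_top (⟨a, ha⟩ : Q)) (mem_top ⟨b, hb⟩)), rfl⟩

theorem Fr_le {K : Subgroup P} (hK : K.index = 2) : Fr Q ≤ K := by
  rw [map_le_iff_le_comap]
  have := normal_of_index_eq_two hK
  rcases (Nat.dvd_prime Nat.prime_two).1 (hK ▸ relIndex_dvd_index_of_normal K Q) with h | h
  · rw [comap_subtype, index_eq_one.1 h]; exact le_top
  · exact frattini_le_of_index h

theorem index_frattini_dvd (hP : IsPGroup 2 P) {K : Subgroup P} (hK : K.index = 2)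
    (hm : IsMetacyclic K) : (frattini Q).index ∣ 8 := by
  have : Fact (Nat.Prime 2) := ⟨Nat.prime_two⟩
  have hQ := hP.to_subgroup Q
  obtain ⟨a, b, -, hab⟩ := Metacyc.exists_gen_of_isMetacyclic (BG.metacyclicS (inf_le_right : Q ⊓ K ≤ K) hm)
  obtain ⟨w, hw, hw'⟩ : ∃ w ∈ Q, ∀ q ∈ Q, q ∈ K ∨ w⁻¹ * q ∈ K := by
    by_cases h : Q ≤ K
    · exact ⟨1, one_mem _, fun q hq => Or.inl (h hq)⟩
    · obtain ⟨w, hw, hwK⟩ := SetLike.not_le_iff_exists.1 h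
      exact ⟨w, hw, fun q _ => by simp [mul_mem_iff_of_index_two hK, hwK, em]⟩
  have hs : ∀ (a : Q) (n : ℕ), ((a : Q ⧸ frattini Q)) ^ n = a ^ (n % 2) := fun a n =>
    pow_eq_pow_mod n (by
      rw [← QuotientGroup.mk_pow, QuotientGroup.eq_one_iff]; exact PGroup.pow_mem_frattini hQ a)
  let π : Fin 2 × Fin 2 × Fin 2 → Q ⧸ frattini Q := fun v =>
    ((⟨w, hw⟩ : Q) : Q ⧸ frattini Q) ^ (v.1 : ℕ) * (((⟨a, a.2.1⟩ : Q) : Q ⧸ frattini Q) ^ (v.2.1 : ℕ) *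
      ((⟨b, b.2.1⟩ : Q) : Q ⧸ frattini Q) ^ (v.2.2 : ℕ))
  have h1 : ∀ q : Q, (q : P) ∈ K → ∃ i j : Fin 2, (q : Q ⧸ frattini Q) =
      ((⟨a, a.2.1⟩ : Q) : Q ⧸ frattini Q) ^ (i : ℕ) * ((⟨b, b.2.1⟩ : Q) : Q ⧸ frattini Q) ^ (j : ℕ) :=
    fun q hq => by
      obtain ⟨i, j, e⟩ := hab ⟨q, q.2, hq⟩
      refine ⟨⟨i % 2, Nat.mod_lt _ two_pos⟩, ⟨j % 2, Nat.mod_lt _ two_pos⟩, ?_⟩
      rw [← hs, ← hs, ← QuotientGroup.mk_pow, ← QuotientGroup.mk_pow, ← QuotientGroup.mk_mul]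
      exact congrArg _ (Subtype.ext (congrArg Subtype.val e :))
  have hπ : Function.Surjective π := fun q => by
    obtain ⟨q, rfl⟩ := QuotientGroup.mk_surjective q
    rcases hw' q q.2 with h | h
    · obtain ⟨i, j, e⟩ := h1 q h
      exact ⟨(0, i, j), by simp [π, e]⟩
    · obtain ⟨i, j, e⟩ := h1 ((⟨w, hw⟩ : Q)⁻¹ * q) h
      exact ⟨(1, i, j), by simp [π, ← e]⟩
  have h2 := Nat.card_le_card_of_surjective π hπ
  obtain ⟨n, hn⟩ := hQ.index (frattini Q)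
  rw [← index_eq_card, hn] at h2
  simp only [Nat.card_eq_fintype_card, Fintype.card_prod, Fintype.card_fin] at h2
  rw [hn]
  exact pow_dvd_pow 2 ((Nat.pow_le_pow_iff_right (by norm_num : 1 < 2)).1
    (show 2 ^ n ≤ 2 ^ 3 from h2))

/-- The data of an essential subgroup. -/
structure Es (Q : Subgroup P) (G H : Subgroup (MulAut Q)) : Prop where
  pg : IsPGroup 2 P
  ess : EssAut 2 G (autInducedBy ⊤ Q) H
  cent : centralizerIn ⊤ Q ≤ Q

theorem conj_apply (ht : t ∈ normalizer (Q : Set P)) {y : P} (hy : y ∈ Q) :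
    y⁻¹ * extAut (g * conjAut Q t ht * g⁻¹) y =
      extAut g ((extAut g⁻¹ y)⁻¹ * (t * extAut g⁻¹ y * t⁻¹)) := by
  have h1 := extAut_mem g⁻¹ hy
  rw [extAut_mul_apply, extAut_mul_apply, extAut_conjAut ht h1, (isHomOn_extAut g).map_mul
    (inv_mem h1) (conj_mem_of_mem_normalizer ht h1), (isHomOn_extAut g).map_inv h1,
    extAut_apply_inv]

namespace Es

variable (h : Es Q G H)
include h

theorem mem_of_comm {s : P} (hs : ∀ q ∈ Q, Commute s q) : s ∈ Q :=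
  h.cent ⟨mem_top s, fun q hq => (hs q hq).eq.symm⟩

theorem notMem_Inn (ht : t ∈ normalizer (Q : Set P)) (htQ : t ∉ Q) : conjAut Q t ht ∉ Inn Q :=
  have : Fact (Nat.Prime 2) := ⟨Nat.prime_two⟩
  fun hh => htQ ((conjAut_mem_Inn_iff le_top h.cent (mem_top t) ht).1 hh)

theorem ne_top : Q ≠ ⊤ := fun e => h.ess.U_not_le (by rw [Inn_eq_autInducedBy, ← e])

theorem key (ht : t ∈ normalizer (Q : Set P)) (htQ : t ∉ Q) (hg : g ∈ G) (hgH : g ∉ H) :
    ∃ β : MulAut Q, Odd (orderOf β) ∧ β ≠ 1 ∧ ∀ X Y : Subgroup P, X ≤ Y →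
      (∀ y ∈ Q, y ∈ Y → y⁻¹ * (t * y * t⁻¹) ∈ X) →
      (∀ y ∈ Q, extAut g y ∈ Y → extAut g (y⁻¹ * (t * y * t⁻¹)) ∈ X) →
      ∀ y ∈ Q, y ∈ Y → y⁻¹ * extAut β y ∈ X := by
  obtain ⟨β, h1, h2, h3⟩ := ess_key h.ess (conjAut_mem_autInducedBy ht (mem_top t))
    (h.notMem_Inn ht htQ) hg hgH
  refine ⟨β, h1, h2, fun X Y hXY a b => stabOn_subgroupOf_iff.1 (h3 _ _ (comap_mono hXY)
    (stabOn_conjAut_subgroupOf ht a) (stabOn_subgroupOf_iff.2 fun y hy hY => ?_))⟩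
  rw [conj_apply ht hy]
  exact b _ (extAut_mem _ hy) (by rwa [extAut_apply_inv])

theorem mem_of_Fr (ht : t ∈ normalizer (Q : Set P)) (h1 : ∀ y ∈ Q, y⁻¹ * (t * y * t⁻¹) ∈ Fr Q) :
    t ∈ Q :=
  have : Fact (Nat.Prime 2) := ⟨Nat.prime_two⟩
  by_contra fun htQ => h.notMem_Inn ht htQ (h.ess.mem_Inn_of_stabOn (h.pg.to_subgroup Q)
    (h.ess.U_le_A (conjAut_mem_autInducedBy ht (mem_top t))) (stabOn_conjAut ht fun y _ => h1 y y.2))

theorem pair_Fr (ht : t ∈ normalizer (Q : Set P)) (htQ : t ∉ Q) (hg : g ∈ G) (hgH : g ∉ H)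
    {X : Subgroup P} (hX : Fr Q ≤ X) (h2 : ∀ y ∈ Q, y ∈ X → y⁻¹ * (t * y * t⁻¹) ∈ Fr Q)
    (h3 : ∀ y ∈ Q, y⁻¹ * (t * y * t⁻¹) ∈ X) : ∃ y ∈ Q, extAut g (y⁻¹ * (t * y * t⁻¹)) ∉ X := by
  have hΦ : ∀ (α : MulAut Q) y, α y ∈ frattini Q ↔ y ∈ frattini Q := fun α y =>
    (aInv_frattini ⊤).mem_iff (mem_top α)
  obtain ⟨q, hq⟩ := ess_pair h.ess (h.pg.to_subgroup Q) (conjAut_mem_autInducedBy ht (mem_top t))
    (h.notMem_Inn ht htQ) hg hgH (B := frattini Q) (W := frattini Q) (X := X.subgroupOf Q) le_rfl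
    (fun y hy => (hΦ g y).2 hy) (hΦ g) le_rfl (map_le_iff_le_comap.1 hX)
    (stabOn_of_inv fun y hy => (hΦ _ y).2 hy) (stabOn_conjAut ht fun y hy => h2 y y.2 hy)
    (fun y _ => h3 y y.2)
  exact ⟨q, q.2, fun hh => hq (by rw [mem_subgroupOf, coe_eq_extAut]; exact hh)⟩

theorem pair_fix (ht : t ∈ normalizer (Q : Set P)) (htQ : t ∉ Q) (hg : g ∈ G) (hgH : g ∉ H)
    {V X : Subgroup P} (hV : ∀ y ∈ Q, extAut g y ∈ V ↔ y ∈ V) (hX : V ≤ X)
    (h1 : ∀ y ∈ V, Commute t y) (h2 : ∀ y ∈ Q, y ∈ X → y⁻¹ * (t * y * t⁻¹) ∈ V)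
    (h3 : ∀ y ∈ Q, y⁻¹ * (t * y * t⁻¹) ∈ X) : ∃ y ∈ Q, extAut g (y⁻¹ * (t * y * t⁻¹)) ∉ X := by
  obtain ⟨q, hq⟩ := ess_pair h.ess (h.pg.to_subgroup Q) (conjAut_mem_autInducedBy ht (mem_top t))
    (h.notMem_Inn ht htQ) hg hgH (B := ⊥) (W := V.subgroupOf Q) (X := X.subgroupOf Q) bot_le
    (fun y hy => by rw [mem_bot.1 hy, map_one]; exact one_mem _)
    (fun y => by rw [mem_subgroupOf, coe_eq_extAut, hV y y.2, mem_subgroupOf]) bot_le
    (comap_mono hX) (stabOn_conjAut ht fun y hy => by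
      rw [(h1 y hy).eq]; simp)
    (stabOn_conjAut_subgroupOf ht h2) (fun y _ => h3 y y.2)
  exact ⟨q, q.2, fun hh => hq (by rw [mem_subgroupOf, coe_eq_extAut]; exact hh)⟩

theorem two {K : Subgroup P} (hK : K.index = 2) (hm : IsMetacyclic K) {s : P}
    (hs : s ∈ normalizer (Q : Set P)) (hsQ : s ∉ Q) (ht : t ∈ normalizer (Q : Set P))
    (htQ : t ∉ Q) : s⁻¹ * t ∈ Q := by
  have : Fact (Nat.Prime 2) := ⟨Nat.prime_two⟩
  have h1 := ess_two h.ess (h.pg.to_subgroup Q) (index_frattini_dvd h.pg hK hm)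
    (conjAut_mem_autInducedBy hs (mem_top s)) (h.notMem_Inn hs hsQ)
    (conjAut_mem_autInducedBy ht (mem_top t)) (h.notMem_Inn ht htQ)
  refine (conjAut_mem_Inn_iff le_top h.cent (mem_top _) (mul_mem (inv_mem hs) ht)).1 ?_
  convert h1 using 1
  rw [eq_inv_mul_iff_mul_eq]
  refine aut_ext fun y hy => ?_
  rw [extAut_mul_apply, extAut_conjAut _ hy, extAut_conjAut _ hy,
    extAut_conjAut _ (conj_mem_of_mem_normalizer (mul_mem (inv_mem hs) ht) hy)]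
  group

end Es

end Sub

end CfsgLib.Bicyc3
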