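import Mathlib
import Cfsg.Agent.Lib.Bicyc3.Ess
import Cfsg.Agent.Lib.BG.S4b_2
import Cfsg.Agent.Lib.Frob.Quaternion

/-! A bicyclic `2`-group with noncyclic derived subgroup has no essential subgroup. -/

set_option autoImplicit false
set_option linter.unusedSectionVars false

namespace CfsgLib.Bicyc3

open Subgroup Cfsg Cfsg.FusionSystem Fusion
open scoped commutatorElement

variable {P W : Type*} [Group P] [Finite P] [AddCommGroup W] {e : W → P}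
  {ρ : P → Module.End ℤ W} {ξ : Module.End ℤ W} {c : W} {x : P} {M N N' Q : Subgroup P}
  {G H : Subgroup (MulAut Q)}

/-- The elements killed by `k`. -/
def Om (W : Type*) [AddCommGroup W] (k : ℤ) : AddSubgroup W :=
  (LinearMap.ker (k • (1 : Module.End ℤ W))).toAddSubgroup

theorem mem_Om {k : ℤ} {a : W} : a ∈ Om W k ↔ k • a = 0 := Iff.rfl

/-- The module is not cyclic. -/
structure NC (ξ : Module.End ℤ W) (c : W) : Prop where
  two : ∃ v₁ v₂ : W, (2 : ℤ) • v₁ = 0 ∧ (2 : ℤ) • v₂ = 0 ∧ v₁ ≠ 0 ∧ v₂ ≠ 0 ∧ v₁ ≠ v₂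
  nd : ∀ a, ξ c ≠ (2 : ℤ) • a

theorem exists_invol_pow (hP : IsPGroup 2 P) {y : P} (hy : y ≠ 1) :
    ∃ n : ℕ, y ^ n ≠ 1 ∧ (y ^ n) ^ 2 = 1 := by
  obtain ⟨k, hk⟩ := hP y
  obtain ⟨j, h1, h2⟩ := exists_pow_notMem_pow_mem (I := ⊥) (p := 2) (by simpa using hy)
    (mem_bot.2 hk)
  exact ⟨_, by simpa using h1, mem_bot.1 h2⟩

namespace Su

variable (h : Su e ρ ξ c x M N N')
include h

theorem nc (hc : ¬ IsCyclic (commutator P)) : NC ξ c := by
  have : Fact (Nat.Prime 2) := ⟨Nat.prime_two⟩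
  refine ⟨by_contra fun hn => hc (Frob.isCyclic_of_comm_of_forall_mem_zpowers ⟨⟨?_⟩⟩ ?_),
    fun a ha => hc (isCyclic_of_le (H' := zpowers (e c)) fun g hg => ?_)⟩
  · rintro ⟨a, ha⟩ ⟨b, hb⟩
    obtain ⟨a, rfl⟩ := (h.rng a).1 ha
    obtain ⟨b, rfl⟩ := (h.rng b).1 hb
    exact Subtype.ext (h.comm a b)
  · rintro p hp ⟨a, ha⟩ ⟨b, hb⟩ h1 h2
    obtain ⟨a, rfl⟩ := (h.rng a).1 ha
    obtain ⟨b, rfl⟩ := (h.rng b).1 hb
    rw [← orderOf_coe] at h1 h2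
    obtain ⟨k, hk⟩ := h.pg (e a)
    obtain rfl : p = 2 := (Nat.prime_dvd_prime_iff_eq hp Nat.prime_two).mp
      (hp.dvd_of_dvd_pow (h1 ▸ orderOf_dvd_of_pow_eq_one hk))
    obtain ⟨a1, a2⟩ := orderOf_eq_prime_iff.1 h1
    obtain ⟨b1, b2⟩ := orderOf_eq_prime_iff.1 h2
    obtain rfl : a = b := by_contra fun hab => hn ⟨a, b, h.eq_one.1 ((h.two a).trans a1),
      h.eq_one.1 ((h.two b).trans b1), mt h.eq_one.2 a2, mt h.eq_one.2 b2, hab⟩
    exact mem_zpowers _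
  · obtain ⟨i, j, e1⟩ := h.gen a
    obtain ⟨m, hm⟩ := h.exists_smul_of_odd (k := 1 - 2 * j) (l := 2 * i) (a := ξ c) (d := c)
      (odd_one.sub_even (even_two_mul j)) (by
        rw [e1] at ha; linear_combination (norm := module) ha)
    obtain ⟨a, rfl⟩ := (h.rng g).1 hg
    obtain ⟨i, j, rfl⟩ := h.gen a
    exact ⟨i + j * m, by rw [hm, ← mul_smul, ← add_smul, h.zsmul]⟩

theorem mem_V {a : W} : e a ∈ h.im (Om W 2) ↔ (2 : ℤ) • a = 0 := h.mem_im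

theorem sq_V {y : P} (hy : y ∈ h.im (Om W 2)) : y * y = 1 := by
  obtain ⟨v, hv, rfl⟩ := hy
  rw [← pow_two, ← h.two, mem_Om.1 hv, h.zero]

theorem comm_V {g y : P} (hg : g ∈ M) (hy : y ∈ h.im (Om W 2)) : Commute g y := by
  obtain ⟨v, hv, rfl⟩ := hy
  exact h.commute_V hg hv

theorem V_le : h.im (Om W 2) ≤ N := by
  rintro _ ⟨v, -, rfl⟩
  exact h.eN v

variable (hn : NC ξ c)
include hn

theorem exists_two : ∃ a ∈ h.im (Om W 2), ∃ b ∈ h.im (Om W 2),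
    a * a = 1 ∧ b * b = 1 ∧ a ≠ 1 ∧ b ≠ 1 ∧ a ≠ b := by
  obtain ⟨v₁, v₂, a1, a2, a3, a4, a5⟩ := hn.two
  exact ⟨_, h.mem_V.2 a1, _, h.mem_V.2 a2, h.sq_V (h.mem_V.2 a1), h.sq_V (h.mem_V.2 a2),
    mt h.eq_one.1 a3, mt h.eq_one.1 a4, h.inj.ne a5⟩

/-- The involutions of the Frattini subgroup lie in the derived subgroup. -/
theorem invol {y : P} (hy : y ∈ M) (hN : y ∈ N) (h2 : y * y = 1) : y ∈ h.im (Om W 2) := by
  obtain ⟨a, ha, b, hb, a1, a2, a3, a4, a5⟩ := h.exists_two hn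
  obtain ⟨K, hK, hm⟩ := TwoGrp.exists_kleinFour a1 a2
    (h.comm_V (by obtain ⟨v, -, rfl⟩ := ha; exact h.eM v) hb) a3 a4 a5
  have hle : K ≤ h.im (Om W 2) := fun g hg => by
    rcases (hm g).1 hg with rfl | rfl | rfl | rfl
    exacts [one_mem _, ha, hb, mul_mem ha hb]
  exact hle (TwoGrp.mem_of_pRankLE' (TwoGrp.Bic.pRankLE_of_isMetacyclic h.mN) hK (hle.trans h.V_le)
    hN h2 fun a ha => h.comm_V hy (hle ha))

variable (hE : Es Q G H)
include hE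

theorem caseA {K : Subgroup P} (hm : IsMetacyclic K) (hA : ∀ a, e a ∈ K)
    (hi : ∀ y ∈ K, y ∈ M → y ∈ N) (hQ : Q ≤ K) : False := by
  have : Fact (Nat.Prime 2) := ⟨Nat.prime_two⟩
  have := normal_of_index_eq_two h.iM
  obtain ⟨b, hb, hb', -⟩ := h.exb
  obtain ⟨t, htM, ht, htQ⟩ := exists_mem_normalizer_of_not_le (isPGroup_top h.pg) (P := Q) (Q := M)
    le_top le_top le_normalizer_of_normal fun hh => hb' (hi b (hQ (hh hb)) hb)
  obtain ⟨g, hg, hgH⟩ := hE.ess.exists_notMem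
  obtain ⟨β, hβ, hβ1, hs⟩ := hE.key ht htQ hg hgH
  have h1 : ∀ y ∈ Q, y * y = 1 → y ∈ h.im (Om W 2) := fun y hy h2 => by
    have hM : y ∈ M := by_contra fun hh => h.sq y hh 0 (by rw [pow_two, h2, h.zero])
    exact h.invol hn hM (hi y (hQ hy) hM) h2
  have h2 : ∀ y ∈ h.im (Om W 2), y⁻¹ * (t * y * t⁻¹) = 1 := fun y hy => by
    rw [(h.comm_V htM hy).eq]; group
  have h3 := hs ⊥ (h.im (Om W 2)) bot_le (fun y _ hy => h2 y hy) fun y hy hy' => by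
    rw [h2 y (h1 y hy ?_), (isHomOn_extAut g).map_one]
    · exact one_mem _
    · refine injOn_extAut g Q (mul_mem hy hy) (one_mem _) ?_
      rw [(isHomOn_extAut g).map_mul hy hy, h.sq_V hy', (isHomOn_extAut g).map_one]
  refine hβ1 (aut_eq_one (fix_of_meta h.pg hβ le_rfl (BG.metacyclicS hQ hm)
    (fun y hy => extAut_mem β hy)
    (fun y hy h2 => (inv_mul_eq_one.1 (mem_bot.1 (h3 y hy (h1 y hy h2)))).symm) ?_))
  refine or_iff_not_imp_left.2 fun hna => ?_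
  push Not at hna
  obtain ⟨a, ha, b, hb, hab⟩ := hna
  obtain ⟨n, z1, z2⟩ := exists_invol_pow h.pg (y := a * b * a⁻¹ * b⁻¹)
    fun hh => hab (by rwa [mul_inv_eq_one, mul_inv_eq_iff_eq_mul] at hh)
  have hV : h.im (Om W 2) ≤ Q := by
    rintro _ ⟨v, hv, rfl⟩
    have h4 : ∀ y ∈ Q, y⁻¹ * (e v * y * (e v)⁻¹) ∈ Fr Q := fun y hy => by
      by_cases h5 : y⁻¹ * (e v * y * (e v)⁻¹) = 1
      · rw [h5]; exact one_mem _
      · rw [TwoGrp.Bic.eq_of_sq_of_isCyclic (BG.metacyclic_der1_cyclic hm) ?_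
          (pow_mem (commutator_mem_commutator (hQ ha) (hQ hb)) n) ?_ z2 h5 z1]
        · exact pow_mem (comm_mem_Fr h.pg ha hb) n
        · simpa [commutatorElement_def, mul_assoc] using
            commutator_mem_commutator (inv_mem (hQ hy)) (hA v)
        · rw [h.inv_conj_e, ← h.two, smul_sub, ← map_zsmul, mem_Om.1 hv, map_zero, sub_zero, h.zero]
    refine hE.mem_of_Fr (mem_normalizer_of_conj_mem fun y hy => ?_) h4
    simpa using mul_mem hy (map_subtype_le _ (h4 y hy))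
  obtain ⟨a, ha, b, hb, h4⟩ := h.exists_two hn
  exact ⟨a, hV ha, b, hV hb, h4⟩

theorem caseM (hQ : Q ≤ M) (hA : ∀ a, e a ∈ Q) : False := by
  have hnQ : Q.Normal := Normal.of_commutator_le _ fun g hg => by
    obtain ⟨a, rfl⟩ := (h.rng g).1 hg
    exact hA a
  have hall : ∀ s, s ∈ normalizer (Q : Set P) := fun s => le_normalizer_of_normal (mem_top s)
  have hxQ : x ∉ Q := fun hh => h.xM (hQ hh)
  have hM : M ≤ Q := fun m hm => by_contra fun hh => h.xM (by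
    simpa using mul_mem hm (hQ (hE.two h.iN h.mN (hall m) hh (hall x) hxQ)))
  obtain ⟨μ, hμ⟩ := h.xi2
  have hx2 : x ^ 2 ∈ Q := hM (sq_mem_of_index_two h.iM x)
  have h0 : ∀ w ∈ M, w ∉ N → ∃ a, x ^ 2 * w * (x ^ 2)⁻¹ * w⁻¹ = e (ξ c + (2 : ℤ) • a) :=
    fun w hw hN => by
      obtain ⟨k, hk⟩ := (h.out w hw hN).2
      refine ⟨c + k • ξ c + (k * μ) • ξ c, ?_⟩
      rw [show x ^ 2 * w * (x ^ 2)⁻¹ = x * (x * w * x⁻¹) * x⁻¹ by rw [pow_two]; group, hk,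
        show x * (e (c + k • ξ c) * w) * x⁻¹ = x * e (c + k • ξ c) * x⁻¹ * (x * w * x⁻¹) by group,
        hk, h.conj, ← mul_assoc, mul_inv_cancel_right, ← h.add, h.xi, map_add, map_zsmul, hμ]
      congr 1
      module
  have h2 : ∀ a, e ((2 : ℤ) • a) ∈ Fr Q := fun a => h.two a ▸ sq_mem_Fr h.pg (hA a)
  have h3 : ∀ a, e (ξ a) ∈ Fr Q := fun a => by
    obtain ⟨b, hb, hb', -⟩ := h.exb
    obtain ⟨a', ha'⟩ := h0 b hb hb'
    obtain ⟨k, hk⟩ := h.xi_mem a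
    have := comm_mem_Fr h.pg hx2 (hM hb)
    rw [ha', h.add, Subgroup.mul_mem_cancel_right _ (h2 a')] at this
    rw [hk, h.zsmul]
    exact zpow_mem this k
  obtain ⟨g, hg, hgH⟩ := hE.ess.exists_notMem
  have hf := isHomOn_extAut g
  have hder : ∀ y, ∃ a, y⁻¹ * (x * y * x⁻¹) = e a := fun y => by
    obtain ⟨a, ha⟩ := h.der y⁻¹ x
    exact ⟨a, by rw [← mul_inv_eq_iff_eq_mul] at ha; rw [← ha]; group⟩
  obtain ⟨y, hy, hyN⟩ := hE.pair_Fr (hall x) hxQ hg hgH (Fr_le h.iN) (fun y hy hN => by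
    obtain ⟨k, a, rfl⟩ := h.phi y (hQ hy) hN
    rw [show ((x ^ 2) ^ k * e a)⁻¹ * (x * ((x ^ 2) ^ k * e a) * x⁻¹) = (e a)⁻¹ * (x * e a * x⁻¹) by
      group, h.conj, h.xi, h.add, inv_mul_cancel_left]
    exact h3 a) fun y _ => by
      obtain ⟨a, ha⟩ := hder y
      exact ha ▸ h.eN a
  obtain ⟨a, ha⟩ := hder y
  rw [ha] at hyN
  let T := h.im (LinearMap.range ((2 : ℤ) • (1 : Module.End ℤ W))).toAddSubgroup
  have hT : ∀ a, e ((2 : ℤ) • a) ∈ T := fun a => h.mem_im.2 ⟨a, rfl⟩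
  have hTQ : T ≤ Q := by
    rintro _ ⟨a, -, rfl⟩
    exact hA a
  have h4 : ∀ m ∈ Q, m * extAut g (e a) * m⁻¹ * (extAut g (e a))⁻¹ ∈ img T (extAut g) :=
    fun m hm => by
      have h5 := extAut_mem g⁻¹ hm
      obtain ⟨a', ha'⟩ := h.rho_sub_two (hQ h5) a
      rw [← extAut_apply_inv g m, ← hf.map_conj h5 (hA a), ← hf.map_inv (hA a), h.conj,
        ← hf.map_mul (hA _) (inv_mem (hA a)), ← h.sub, ha']
      exact mem_img_of_mem _ (hT a')
  have hwM := hQ (extAut_mem g (hA a))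
  have h5 : T = img T (extAut g) := eq_of_le_of_card_le (by
    rintro _ ⟨_, ⟨a', rfl⟩, rfl⟩
    obtain ⟨a'', h6⟩ := h.exists_conj_two hwM hyN a'
    have := h4 _ (hA a'')
    rwa [h.conj_e, mul_inv_cancel_right, h6] at this)
    ((hf.mono hTQ).card_img (injOn_extAut g T)).le
  obtain ⟨a', ha'⟩ := h0 _ hwM hyN
  have h6 := h4 _ hx2
  rw [← h5, ha', h.add, Subgroup.mul_mem_cancel_right _ (hT a')] at h6
  obtain ⟨a'', h7⟩ := h.mem_im.1 h6
  exact hn.nd a'' h7.symm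

omit hn in
theorem V_le_Q (hQ : Q ≤ M) : h.im (Om W 2) ≤ Q := fun _ hy =>
  hE.mem_of_comm fun _ hq => (h.comm_V (hQ hq) hy).symm

omit hn in
theorem norm_of_conj (hQ : Q ≤ M) {w z : P} (hw : w ∈ Q) (hN : w ∉ N)
    (hz1 : ∀ s ∈ M, s ∈ N → Commute s z) (hz2 : ∀ m : P, m * z * m⁻¹ ∈ Q)
    (hle : Q ≤ M ⊓ N ⊓ centralizer {w} ⊔ zpowers z ⊔ zpowers w) {m : P} {v : W}
    (hv : (2 : ℤ) • v = 0) (hm : m * w * m⁻¹ = e v * w) : m ∈ normalizer (Q : Set P) := by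
  have hC : M ⊓ N ⊓ centralizer {w} ≤ Q := by
    rintro s ⟨⟨s1, s2⟩, s3⟩
    have s4 : Commute s w := mem_centralizer_singleton_iff.1 s3
    have : Q ≤ centralizer {s} := hle.trans (sup_le (sup_le ?_ (zpowers_le.2 ?_)) (zpowers_le.2 ?_))
    · exact hE.mem_of_comm fun q hq => Commute.symm (mem_centralizer_singleton_iff.1 (this hq))
    · rintro r ⟨⟨r1, r2⟩, r3⟩
      exact mem_centralizer_singleton_iff.2 (h.cent_comm (hQ hw) hN r1 r2
        (mem_centralizer_singleton_iff.1 r3) s1 s2 s4)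
    · exact mem_centralizer_singleton_iff.2 (hz1 s s1 s2).symm
    · exact mem_centralizer_singleton_iff.2 s4.symm
  have : Q ≤ Q.comap (MulAut.conj m).toMonoidHom :=
    hle.trans (sup_le (sup_le ?_ (zpowers_le.2 (hz2 m))) (zpowers_le.2 ?_))
  · exact mem_normalizer_of_conj_mem this
  · rintro s ⟨⟨s1, s2⟩, s3⟩
    have s4 : Commute s w := mem_centralizer_singleton_iff.1 s3
    have s5 := (normal_of_index_eq_two h.iM).conj_mem s s1 m
    refine hC ⟨⟨s5, (normal_of_index_eq_two h.iN).conj_mem s s2 m⟩,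
      mem_centralizer_singleton_iff.2 ?_⟩
    have s6 := (h.commute_V s5 hv).inv_right.mul_right (s4.map (MulAut.conj m))
    rwa [MulAut.conj_apply m w, hm, inv_mul_cancel_left] at s6
  · change m * w * m⁻¹ ∈ Q
    rw [hm]
    exact mul_mem (h.V_le_Q hE hQ (h.mem_V.2 hv)) hw

theorem caseI (hQ : Q ≤ M) {w : P} (hw : w ∈ Q) (hN : w ∉ N) (hc : ∀ q ∈ Q, Commute q w) :
    False := by
  have key : ∀ v : W, (2 : ℤ) • v = 0 → v ≠ 0 →
      ∃ m ∈ normalizer (Q : Set P), m ∉ Q ∧ m * w * m⁻¹ = e v * w := fun v hv hv0 => by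
    obtain ⟨m, hm⟩ := h.exists_conj (hQ hw) hN v
    refine ⟨m, h.norm_of_conj hE hQ (z := 1) hw hN (fun s _ _ => Commute.one_right s)
      (fun m => by simp) (fun q hq => ?_) hv hm, fun hh => hv0 (h.eq_one.1 ?_), hm⟩
    · by_cases hq' : q ∈ N
      · exact mem_sup_left (mem_sup_left ⟨⟨hQ hq, hq'⟩, mem_centralizer_singleton_iff.2 (hc q hq)⟩)
      · rw [← inv_mul_cancel_right q w]
        exact mul_mem (mem_sup_left (mem_sup_left ⟨⟨hQ (mul_mem hq (inv_mem hw)), by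
          simp [mul_mem_iff_of_index_two h.iN, hq', hN]⟩, mem_centralizer_singleton_iff.2
          (hc _ (mul_mem hq (inv_mem hw)))⟩)) (mem_sup_right (mem_zpowers w))
    · rwa [(hc m hh).eq, mul_inv_cancel_right, right_eq_mul] at hm
  obtain ⟨v₁, v₂, a1, a2, a3, a4, a5⟩ := hn.two
  obtain ⟨m₁, b1, b2, b3⟩ := key v₁ a1 a3
  obtain ⟨m₂, c1, c2, c3⟩ := key v₂ a2 a4
  refine a5 (h.inj (mul_right_cancel (b := w) ?_))
  rw [← b3, ← c3, show m₂ * w * m₂⁻¹ = m₁ * (m₁⁻¹ * m₂ * w) * m₂⁻¹ by group,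
    (hc _ (hE.two h.iN h.mN b1 b2 c1 c2)).eq]
  group

theorem caseII (hQ : Q ≤ M) (hA : ¬ commutator P ≤ Q)
    (hZ : ∀ y ∈ Q, (∀ q ∈ Q, Commute q y) → y ∈ N) : False := by
  have : Fact (Nat.Prime 2) := ⟨Nat.prime_two⟩
  obtain ⟨t, htA, ht, htQ⟩ := exists_mem_normalizer_of_not_le (isPGroup_top h.pg) (P := Q)
    (Q := commutator P) le_top le_top le_normalizer_of_normal hA
  obtain ⟨θ, rfl⟩ := (h.rng t).1 htA
  obtain ⟨g, hg, hgH⟩ := hE.ess.exists_notMem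
  have hf := isHomOn_extAut g
  have hVQ := h.V_le_Q hE hQ
  have hV0 : ∀ α : MulAut Q, ∀ y ∈ h.im (Om W 2), extAut α y ∈ h.im (Om W 2) := fun α y hy => by
    have h1 := extAut_mem α (hVQ hy)
    refine h.invol hn (hQ h1) (hZ _ h1 fun q hq => ?_) ?_
    · have h2 := extAut_mem α⁻¹ hq
      rw [← extAut_apply_inv α q, Commute, SemiconjBy, ← (isHomOn_extAut α).map_mul h2 (hVQ hy),
        ← (isHomOn_extAut α).map_mul (hVQ hy) h2, (h.comm_V (hQ h2) hy).eq]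
    · rw [← (isHomOn_extAut α).map_mul (hVQ hy) (hVQ hy), h.sq_V hy, (isHomOn_extAut α).map_one]
  have hV : ∀ y ∈ Q, extAut g y ∈ h.im (Om W 2) ↔ y ∈ h.im (Om W 2) := fun y _ =>
    ⟨fun hh => extAut_inv_apply g y ▸ hV0 g⁻¹ _ hh, hV0 g y⟩
  have hcf : ∀ a ∈ Q, ∀ b ∈ Q, Commute a b → Commute (extAut g a) (extAut g b) :=
    fun a ha b hb hab => by rw [Commute, SemiconjBy, ← hf.map_mul ha hb, ← hf.map_mul hb ha, hab.eq]
  have hθ : ∀ y ∈ Q, e (ρ y⁻¹ θ - θ) ∈ Q := fun y hy =>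
    h.inv_conj_e θ y ▸ mul_mem (inv_mem hy) (conj_mem_of_mem_normalizer ht hy)
  by_cases h1 : ∀ a, e a ∈ Q → extAut g (e a) ∈ N
  · obtain ⟨β, hβ, hβ1, hs⟩ := hE.key ht htQ hg hgH
    have h2 : ∀ y ∈ h.im (Om W 2), y⁻¹ * (e θ * y * (e θ)⁻¹) = 1 := fun y hy => by
      rw [(h.comm_V (h.eM θ) hy).eq]; group
    have h3 := hs ⊥ (h.im (Om W 2)) bot_le (fun y _ hy => h2 y hy) fun y hy hy' => by
      rw [h2 y ((hV y hy).1 hy'), hf.map_one]; exact one_mem _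
    have h4 := hs (Q ⊓ N) ⊤ le_top
      (fun y hy _ => h.inv_conj_e θ y ▸ ⟨hθ y hy, h.eN _⟩)
      fun y hy _ => h.inv_conj_e θ y ▸ ⟨extAut_mem g (hθ y hy), h1 _ (hθ y hy)⟩
    have h5 := fix_of_meta h.pg hβ (R := Q ⊓ N) inf_le_left (BG.metacyclicS inf_le_right h.mN)
      (fun y hy => by simpa using mul_mem hy (h4 y hy.1 (mem_top y)))
      (fun y hy y2 => (inv_mul_eq_one.1 (mem_bot.1 (h3 y hy.1
        (h.invol hn (hQ hy.1) hy.2 y2)))).symm) (Or.inr (by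
        obtain ⟨a, ha, b, hb, h4⟩ := h.exists_two hn
        exact ⟨a, ⟨hVQ ha, h.V_le ha⟩, b, ⟨hVQ hb, h.V_le hb⟩, h4⟩))
    exact hβ1 (aut_eq_one fun y hy => fix_of_mul h.pg hβ hy (h5 _ (h4 y hy (mem_top y))))
  push Not at h1
  obtain ⟨a₁, ha₁, hw₁⟩ := h1
  have hw : ∀ a, e a ∈ Q → extAut g (e a) ∉ N → ∀ q ∈ Q, ∃ v : W, (2 : ℤ) • v = 0 ∧
      q * extAut g (e a) * q⁻¹ = e v * extAut g (e a) := fun a ha hN q hq => by
    obtain ⟨v, hv⟩ := h.der q (extAut g (e a))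
    refine ⟨v, h.V_of_commute (hQ (extAut_mem g ha)) hN ?_, hv⟩
    have h2 := extAut_mem g⁻¹ hq
    have h3 := conj_mem_of_mem_normalizer (le_normalizer h2) ha
    rw [← mul_inv_eq_iff_eq_mul, ← extAut_apply_inv g q, ← hf.map_conj h2 ha] at hv
    rw [← hv]
    refine (hcf _ ha _ h3 ?_).mul_right (Commute.refl _).inv_right
    rw [h.conj]
    exact h.comm _ _
  have h4 : ∀ a, e a ∈ Q → (4 : ℤ) • a = 0 := fun a ha => by
    obtain ⟨v, hv, h2⟩ := hw a₁ ha₁ hw₁ _ ha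
    rw [h.conj_e, mul_left_inj, h.inj.eq_iff] at h2
    exact h.smul_eq_zero_of_out (hQ (extAut_mem g ha₁)) hw₁ 2 (h2 ▸ hv)
  have h5 : ∀ a : W, (4 : ℤ) • a = 0 → e a ∈ Q := fun a ha => by_contra fun haQ => by
    have h6 : ∀ y ∈ Q, y⁻¹ * (e a * y * (e a)⁻¹) ∈ h.im (Om W 2) := fun y hy => by
      rw [h.inv_conj_e, h.mem_V]
      exact h.rho_sub (inv_mem (hQ hy)) 2 ha
    obtain ⟨y, hy, h7⟩ := hE.pair_fix (mem_normalizer_of_conj_mem fun y hy => by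
      simpa using mul_mem hy (hVQ (h6 y hy))) haQ hg hgH hV le_rfl
      (fun y hy => h.comm_V (h.eM a) hy) (fun y hy _ => h6 y hy) h6
    exact h7 (hV0 g _ (h6 y hy))
  have hθ4 : (4 : ℤ) • θ ≠ 0 := fun hh => htQ (h5 θ hh)
  have hθ8 : (4 * 2 : ℤ) • θ = 0 := by
    have := hE.two h.iN h.mN (inv_mem ht) (by simpa using htQ) ht htQ
    rw [inv_inv, ← pow_two, ← h.two] at this
    rw [mul_smul, h4 _ this]
  have hξ : (4 : ℤ) • ξ θ = 0 := by
    have := hE.two h.iN h.mN ht htQ (t := e (ρ x θ)) (mem_normalizer_of_conj_mem fun y hy => ?_)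
      fun hh => hθ4 (h.rho_eq_zero (g := x) (by rw [map_zsmul, h4 _ hh]))
    · rw [h.xi, h.add, inv_mul_cancel_left] at this
      exact h4 _ this
    · have := mul_mem hy (h5 _ (h.rho_sub (inv_mem (hQ hy)) 4 (a := ρ x θ)
        (by rw [← map_zsmul, hθ8, map_zero])))
      rwa [← h.inv_conj_e, mul_inv_cancel_left] at this
  obtain ⟨y, hy, hwN⟩ := hE.pair_fix ht htQ hg hgH hV h.V_le (fun y hy => h.comm_V (h.eM θ) hy)
    (fun y hy hN => by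
      obtain ⟨ν, hν⟩ := h.inn y⁻¹ (inv_mem (hQ hy)) (inv_mem hN)
      rw [h.inv_conj_e, h.mem_V, hν]
      linear_combination (norm := module) ν • hξ) fun y _ => h.inv_conj_e θ y ▸ h.eN _
  rw [h.inv_conj_e] at hwN
  obtain ⟨ζ, hζ⟩ : ∃ ζ, ζ = ρ y⁻¹ θ - θ := ⟨_, rfl⟩
  have hzQ : e ζ ∈ Q := hζ ▸ hθ y hy
  rw [← hζ] at hwN
  have hout : ∀ w ∈ M, w ∉ N → ∃ ν : ℤ, ρ w θ - θ = (2 * ν) • ξ θ - (2 : ℤ) • θ := fun w a b => by
    obtain ⟨ν, hν⟩ := (h.out w a b).1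
    exact ⟨ν, by rw [hν]; module⟩
  have hyN : y ∉ N := fun hN => hwN (h.V_le (hV0 g _ (by
    obtain ⟨ν, hν⟩ := h.inn y⁻¹ (inv_mem (hQ hy)) (inv_mem hN)
    rw [h.mem_V, hζ, hν]
    linear_combination (norm := module) ν • hξ)))
  obtain ⟨ν, hν⟩ := hout y⁻¹ (inv_mem (hQ hy)) (by simpa using hyN)
  rw [← hζ] at hν
  have hζ2 : (2 : ℤ) • ζ ≠ 0 := fun hh => hθ4 (by
    rw [hν] at hh
    linear_combination (norm := module) ν • hξ - hh)
  have hz1 : ∀ s ∈ M, s ∈ N → Commute s (e ζ) := fun s a b => by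
    obtain ⟨κ, hκ⟩ := h.inn s a b
    obtain ⟨μ, hμ⟩ := h.xi2
    rw [h.commute_iff, hκ, hν, map_sub, map_zsmul, map_zsmul, hμ]
    linear_combination (norm := module) (2 * κ * ν * μ - κ) • hξ
  have hwQ := extAut_mem g hzQ
  have hcw : ∀ q ∈ Q, extAut g⁻¹ q ∈ N → Commute q (extAut g (e ζ)) := fun q hq hN =>
    extAut_apply_inv g q ▸ hcf _ (extAut_mem _ hq) _ hzQ (hz1 _ (hQ (extAut_mem _ hq)) hN)
  have hfi := isHomOn_extAut g⁻¹
  have hcw' : ∀ q ∈ Q, ∀ r ∈ Q, ¬ Commute q (extAut g (e ζ)) → ¬ Commute r (extAut g (e ζ)) →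
      Commute (q⁻¹ * r) (extAut g (e ζ)) := fun q hq r hr a b =>
    hcw _ (mul_mem (inv_mem hq) hr) (by
      rw [hfi.map_mul (inv_mem hq) hr, hfi.map_inv hq, mul_mem_iff_of_index_two h.iN, inv_mem_iff]
      exact iff_of_false (mt (hcw q hq) a) (mt (hcw r hr) b))
  have hzw : ¬ Commute (e ζ) (extAut g (e ζ)) := fun hh =>
    hζ2 (h.V_of_commute (hQ hwQ) hwN hh.symm)
  have hw' := hw ζ hzQ hwN
  generalize extAut g (e ζ) = w at hwN hwQ hcw' hzw hw'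
  have key : ∀ v : W, (2 : ℤ) • v = 0 → ∃ m ∈ Q, m * w * m⁻¹ = e v * w := fun v hv => by
    obtain ⟨m, hm⟩ := h.exists_conj (hQ hwQ) hwN v
    refine ⟨m, by_contra fun hmQ => ?_, hm⟩
    have h6 := hE.two h.iN h.mN ht htQ (h.norm_of_conj hE hQ hwQ hwN hz1 (fun m => ?_)
      (fun q hq => ?_) hv hm) hmQ
    · obtain ⟨v', hv', h7⟩ := hw' _ h6
      obtain ⟨κ, hκ⟩ := hout w (hQ hwQ) hwN
      rw [show (e θ)⁻¹ * m * w * ((e θ)⁻¹ * m)⁻¹ = (e θ)⁻¹ * (m * w * m⁻¹) * e θ by group, hm,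
        ← mul_assoc, ← (h.comm v θ).inv_right.eq, ← h.neg, mul_assoc (e v), mul_assoc (e v),
        ← inv_inv (e θ), ← h.neg, h.conj_e, ← mul_assoc, ← h.add, mul_left_inj, h.inj.eq_iff,
        map_neg] at h7
      exact hθ4 (by
        linear_combination (norm := module) hv - hv' + κ • hξ - (2 : ℤ) • h7 + (2 : ℤ) • hκ)
    · rw [h.conj]
      exact h5 _ (by rw [← map_zsmul, h4 _ hzQ, map_zero])
    · have h7 : ∀ q ∈ Q, q ∈ N → q ∈ M ⊓ N ⊓ centralizer {w} ⊔ zpowers (e ζ) := fun q hq hN => by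
        by_cases h8 : Commute q w
        · exact mem_sup_left ⟨⟨hQ hq, hN⟩, mem_centralizer_singleton_iff.2 h8⟩
        · rw [← mul_inv_cancel_left (e ζ) q]
          exact mul_mem (mem_sup_right (mem_zpowers _)) (mem_sup_left
            ⟨⟨hQ (mul_mem (inv_mem hzQ) hq), N.mul_mem (N.inv_mem (h.eN ζ)) hN⟩,
              mem_centralizer_singleton_iff.2 (hcw' _ hzQ q hq hzw h8)⟩)
      by_cases hq' : q ∈ N
      · exact mem_sup_left (h7 q hq hq')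
      · rw [← inv_mul_cancel_right q w]
        exact mul_mem (mem_sup_left (h7 _ (mul_mem hq (inv_mem hwQ)) (by
          simp [mul_mem_iff_of_index_two h.iN, hq', hwN]))) (mem_sup_right (mem_zpowers w))
  obtain ⟨v₁, v₂, a1, a2, a3, a4, a5⟩ := hn.two
  obtain ⟨m₁, b1, b2⟩ := key v₁ a1
  obtain ⟨m₂, c1, c2⟩ := key v₂ a2
  have h6 : ∀ (m : P) (v : W), v ≠ 0 → m * w * m⁻¹ = e v * w → ¬ Commute m w :=
    fun m v hv hm hh => hv (h.eq_one.1 (by rwa [hh.eq, mul_inv_cancel_right, right_eq_mul] at hm))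
  refine a5 (h.inj (mul_right_cancel (b := w) ?_))
  rw [← b2, ← c2, show m₂ * w * m₂⁻¹ = m₁ * (m₁⁻¹ * m₂ * w) * m₂⁻¹ by group,
    (hcw' _ b1 _ c1 (h6 _ _ a3 b2) (h6 _ _ a4 c2)).eq]
  group

theorem no_ess : False := by
  have hN : ¬ Q ≤ N := h.caseA hn hE h.mN h.eN fun _ a _ => a
  rcases h.le_cases hE.ne_top with hQ | hQ | hQ
  · exact hN hQ
  · exact h.caseA hn hE h.mN' h.eN' (fun y a b => ((h.rel y).1 a).1 b) hQ
  · by_cases hA : commutator P ≤ Q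
    · exact h.caseM hn hE hQ fun a => hA (h.mem a)
    · exact h.caseII hn hE hQ hA fun y hy hc => by_contra fun hN => h.caseI hn hE hQ hy hN hc

end Su

theorem Su.eq_inner (h : Su e ρ ξ c x M N N') (hc : ¬ IsCyclic (commutator P))
    {F : FusionSystem (⊤ : Subgroup P)} (hF : F.IsSaturated 2) : F = innerFusionSystem ⊤ := by
  have : Fact (Nat.Prime 2) := ⟨Nat.prime_two⟩
  refine eq_inner_of_isPGroup (isPGroup_top h.pg) hF ?_
  rintro Q (rfl | hQ)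
  · exact (h.isPGroup_aut.of_equiv (MulAut.congr topEquiv).symm).to_subgroup _
  · obtain ⟨H, hH⟩ := essential_essAut (isPGroup_top h.pg) hF hQ
    exact (h.no_ess (h.nc hc) ⟨h.pg, hH, essential_centralizerIn_le hQ⟩).elim

end CfsgLib.Bicyc3
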