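import Mathlib
import Cfsg.Agent.Lib.Bicyc3.Ess
import Cfsg.Agent.Lib.Fusion.Glue

/-! Saturated fusion systems with one class of essential subgroups with outer automizer `S₃`. -/

set_option autoImplicit false
set_option linter.unusedSectionVars false

namespace CfsgLib.Bicyc3

open Subgroup Cfsg Cfsg.FusionSystem Fusion

variable {P : Type*} [Group P] [Finite P] {Q : Subgroup P}

section Gen

variable {Δ : Subgroup (MulAut Q)} {R : Subgroup P} {f : P → P}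

/-- The generators. -/
def Gn (Δ : Subgroup (MulAut Q)) (R : Subgroup P) (g : P → P) : Prop :=
  R = Q ∧ ∃ β ∈ Δ, g = extAut β

theorem Gn.inv {g k : P → P} (h : Gn Δ R g) (hk : ∀ x ∈ R, k (g x) = x) :
    img R g = Q ∧ ∃ β ∈ Δ, ∀ y ∈ Q, k y = extAut β y := by
  obtain ⟨rfl, β, hβ, rfl⟩ := h
  refine ⟨img_extAut β, β⁻¹, inv_mem hβ, fun y hy => ?_⟩
  conv_lhs => rw [← extAut_apply_inv β y, hk _ (extAut_mem _ hy)]

theorem gen_inner (h : GenMor ⊤ (Gn Δ) R f) :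
    (∃ s : P, ∀ y ∈ R, f y = s * y * s⁻¹) ∨ ∃ s : P, ∀ y ∈ R, s * y * s⁻¹ ∈ Q := by
  induction h with
  | conj _ _ => exact Or.inl ⟨_, fun _ _ => rfl⟩
  | base hg hP => exact Or.inr ⟨1, fun y hy => by simpa [← hg.1] using hP hy⟩
  | baseInv hg hk hP => exact Or.inr ⟨1, fun y hy => by simpa [← (hg.inv hk).1] using hP hy⟩
  | congr _ e ih => exact ih.imp_left fun ⟨s, hs⟩ => ⟨s, fun y hy => by rw [← e y hy, hs y hy]⟩
  | comp _ _ hm ih ih' =>
    rcases ih with ⟨s, hs⟩ | ih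
    · refine ih'.imp (fun ⟨r, hr⟩ => ⟨r * s, fun y hy => ?_⟩) fun ⟨r, hr⟩ => ⟨r * s, fun y hy => ?_⟩
      · rw [Function.comp, hr _ (hm y hy), hs y hy]; group
      · have := hr _ (hm y hy)
        rw [hs y hy] at this
        simpa [mul_assoc] using this
    · exact Or.inr ih

theorem gen_class (hU : autInducedBy ⊤ Q ≤ Δ) (h : GenMor ⊤ (Gn Δ) R f) :
    ∀ s : P, (∀ y ∈ Q, s * y * s⁻¹ ∈ R) →
      ∃ r : P, ∃ β ∈ Δ, ∀ y ∈ Q, f (s * y * s⁻¹) = r * extAut β y * r⁻¹ := by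
  have key : ∀ (s : P) (k : P → P) (β : MulAut Q), β ∈ Δ → (∀ y ∈ Q, k y = extAut β y) →
      (∀ y ∈ Q, s * y * s⁻¹ ∈ Q) →
      ∃ r : P, ∃ β ∈ Δ, ∀ y ∈ Q, k (s * y * s⁻¹) = r * extAut β y * r⁻¹ := fun s k β hβ hk hs =>
    ⟨1, β * conjAut Q s (mem_normalizer_of_conj_mem hs),
      mul_mem hβ (hU (conjAut_mem_autInducedBy _ (mem_top s))), fun y hy => by
        rw [extAut_mul_apply, extAut_conjAut _ hy, hk _ (hs y hy)]; simp⟩
  induction h with
  | @conj _ r _ _ => exact fun s _ => ⟨r * s, 1, one_mem _, fun y _ => by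
      rw [extAut_one_apply]; group⟩
  | base hg hP =>
    obtain ⟨rfl, β, hβ, rfl⟩ := hg
    exact fun s hs => key s _ β hβ (fun _ _ => rfl) fun y hy => hP (hs y hy)
  | baseInv hg hk hP =>
    obtain ⟨e, β, hβ, h⟩ := hg.inv hk
    exact fun s hs => key s _ β hβ h fun y hy => e ▸ hP (hs y hy)
  | congr _ e ih =>
    intro s hs
    obtain ⟨r, β, hβ, h⟩ := ih s hs
    exact ⟨r, β, hβ, fun y hy => by rw [← e _ (hs y hy), h y hy]⟩
  | comp _ _ hm ih ih' =>
    intro s hs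
    obtain ⟨r, β, hβ, h⟩ := ih s hs
    obtain ⟨r', β', hβ', h'⟩ := ih' r fun y hy => by
      have := hm _ (hs _ (extAut_mem β⁻¹ hy))
      rwa [h _ (extAut_mem _ hy), extAut_apply_inv] at this
    exact ⟨r', β' * β, mul_mem hβ' hβ, fun y hy => by
      rw [Function.comp, h y hy, h' _ (extAut_mem _ hy), extAut_mul_apply]⟩

theorem gen_fix {z : P} (hz : ∀ g, Commute g z) (hΔ : ∀ β ∈ Δ, extAut β z = z)
    (h : GenMor ⊤ (Gn Δ) R f) : z ∈ R → f z = z := by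
  induction h with
  | @conj _ s _ _ => exact fun _ => mul_inv_eq_iff_eq_mul.2 (hz s).eq
  | base hg _ =>
    obtain ⟨-, β, hβ, rfl⟩ := hg
    exact fun _ => hΔ β hβ
  | baseInv hg hk hP =>
    obtain ⟨e, β, hβ, h⟩ := hg.inv hk
    exact fun hR => by rw [h z (e ▸ hP hR), hΔ β hβ]
  | congr _ e ih => exact fun hR => by rw [← e z hR, ih hR]
  | comp _ _ hm ih ih' => exact fun hR => by rw [Function.comp, ih hR, ih' (ih hR ▸ hm z hR)]

theorem exists_sat (hP : IsPGroup 2 P) (h1 : SylIn 2 (autInducedBy ⊤ Q) Δ)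
    (h2 : ∀ β ∈ Δ, β ∉ autInducedBy ⊤ Q → ∀ u ∈ autInducedBy ⊤ Q,
      β * u * β⁻¹ ∈ autInducedBy ⊤ Q → u ∈ Inn Q)
    (h3 : centralizerIn ⊤ Q ≤ Q) (h4 : Q ≠ ⊤) {z : P} (hz : ∀ g, Commute g z)
    (hΔ : ∀ β ∈ Δ, extAut β z = z)
    (h5 : ∀ R < Q, centralizerIn ⊤ R ≤ R → ∀ β : MulAut R, Odd (orderOf β) → extAut β z = z →
      β = 1) :
    ∃ F : FusionSystem (⊤ : Subgroup P), F.IsSaturated 2 ∧ Δ ≤ F.autGroup Q := by
  have : Fact (Nat.Prime 2) := ⟨Nat.prime_two⟩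
  have hS := isPGroup_top hP
  have hX : ∀ R g, Gn Δ R g → Mor (univFS ⊤) R g := by
    rintro _ _ ⟨rfl, β, -, rfl⟩
    exact mor_univFS.2 ⟨le_top, isHomOn_extAut β, injOn_extAut β _, fun _ _ => mem_top _⟩
  obtain ⟨F, hF⟩ : ∃ F : FusionSystem (⊤ : Subgroup P), ∀ R f, Mor F R f ↔ GenMor ⊤ (Gn Δ) R f :=
    ⟨genFS _ hX, fun _ _ => mor_genFS⟩
  have hle : Δ ≤ F.autGroup Q := fun β hβ =>
    Mor.mem_autGroup ((hF _ _).2 (GenMor.base ⟨rfl, β, hβ, rfl⟩ le_rfl))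
  have hin : ∀ R : Subgroup P, (¬ ∃ s : P, ∀ y ∈ R, s * y * s⁻¹ ∈ Q) →
      F.autGroup R ≤ autInducedBy ⊤ R := fun R hR α hα => by
    obtain ⟨s, hs⟩ := (gen_inner ((hF _ _).1 ((mem_autGroup le_top).1 hα))).resolve_right hR
    exact mem_autInducedBy.2 ⟨s, mem_top s, hs⟩
  have hcl : ∀ (s : P) (f : P → P) (R : Subgroup P), Mor F (img Q fun y => s * y * s⁻¹) f →
      img (img Q fun y => s * y * s⁻¹) f = R → ∃ r : P, (img Q fun y => r * y * r⁻¹) = R ∧
        ∃ β ∈ Δ, ∀ y ∈ Q, f (s * y * s⁻¹) = r * extAut β y * r⁻¹ := fun s f R hf e => by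
    obtain ⟨r, β, hβ, h⟩ := gen_class h1.le ((hF _ _).1 hf) s
      fun y hy => mem_img_of_mem (fun y => s * y * s⁻¹) hy
    refine ⟨r, ?_, β, hβ, h⟩
    rw [← e, (isHomOn_conj Q s).img_img, img_congr (f := f ∘ fun y => s * y * s⁻¹)
      (g := (fun y => r * y * r⁻¹) ∘ extAut β) h, ← (isHomOn_extAut β).img_img, img_extAut]
  have hQ1 : (img Q fun y => 1 * y * (1 : P)⁻¹) = Q := img_eq_self_of_eqOn fun y _ => by simp
  have hcl' : ∀ (s : P) (f : P → P), Mor F (img Q fun y => s * y * s⁻¹) f →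
      img (img Q fun y => s * y * s⁻¹) f = Q →
        ∃ β ∈ Δ, ∀ y ∈ Q, f (s * y * s⁻¹) = extAut β y := fun s f hf e => by
    obtain ⟨r, hr, β, hβ, h⟩ := hcl s f Q hf e
    refine ⟨conjAut Q r (mem_normalizer_of_img_conj hr) * β,
      mul_mem (h1.le (conjAut_mem_autInducedBy _ (mem_top r))) hβ, fun y hy => ?_⟩
    rw [h y hy, extAut_mul_apply, extAut_conjAut _ (extAut_mem β hy)]
  have hstar : ∀ R : Subgroup P, F.IsCentric R → R ≠ ⊤ → IsPGroup 2 (F.autGroup R) →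
      ¬ autInducedBy ⊤ R ⊓ (pCore 2 (F.autGroup R)).map (F.autGroup R).subtype ≤ Inn R :=
    fun R hR hne hp hh => by
      obtain ⟨g, -, hg, hgR⟩ := exists_mem_normalizer_notMem hS (lt_top_iff_ne_top.2 hne)
      refine hgR ((conjAut_mem_Inn_iff le_top (centric_centralizerIn_le hR) (mem_top g) hg).1
        (hh ⟨conjAut_mem_autInducedBy hg (mem_top g), ?_⟩))
      rw [Core.pCore_eq_top_iff.2 hp, ← MonoidHom.range_eq_map, range_subtype]
      exact conjAut_mem_autGroup F le_top (mem_top g) hg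
  refine ⟨F, saturated_of_family hS (ℋ := fun R => R = ⊤ ∨ ∃ s : P, (img Q fun y => s * y * s⁻¹) = R)
    ?_ ?_ (fun R f hf => GenMor.of_imp ?_ ((hF R f).1 hf)) fun R hR hH => ?_, hle⟩
  · rintro R R' (rfl | ⟨s, rfl⟩) hc
    · obtain ⟨f, hf, rfl⟩ := isConj_iff.1 hc
      exact Or.inl hf.img_top
    · obtain ⟨f, hf, e⟩ := isConj_iff.1 hc
      obtain ⟨r, hr, -⟩ := hcl s f R' hf e
      exact Or.inr ⟨r, hr⟩
  · rintro R (rfl | ⟨s, rfl⟩)
    · refine ⟨⊤, isConj_refl F le_top, fullyAutomized_iff.2 ⟨le_top, ?_⟩,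
        receptive_iff.2 ⟨le_top, fun R f hf e => ⟨f, ?_, fun _ _ => rfl⟩⟩⟩
      · rw [le_antisymm (hin ⊤ fun ⟨s, hs⟩ => h4 (eq_top_iff.2 fun y _ => by
          simpa [mul_assoc] using hs (s⁻¹ * y * s) (mem_top _))) (autInducedBy_le_autGroup F le_top)]
        exact sylIn_self (isPGroup_autInducedBy hS _)
      · obtain rfl : R = ⊤ := eq_of_le_of_card_le le_top (by rw [← hf.card_img, e])
        exact hf.mono le_top
    · refine ⟨Q, isConj_symm (Mor.conj F le_top (mem_top s)).isConj,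
        fullyAutomized_iff.2 ⟨le_top, h1.of_le ?_ ?_ |> fun h => h⟩,
        receptive_iff.2 ⟨le_top, fun R f hf e => ?_⟩⟩
      · exact autInducedBy_le_autGroup F le_top
      · intro α hα
        obtain ⟨β, hβ, h⟩ := hcl' 1 (extAut α) (hQ1.symm ▸ (mem_autGroup le_top).1 hα)
          (by rw [hQ1, img_extAut])
        rwa [aut_ext (α := α) (β := β) fun y hy => by simpa using h y hy]
      · obtain ⟨k, hk, -, -, -, e'⟩ := hf.exists_inv' e
        obtain ⟨s, rfl, -⟩ := hcl 1 k R (hQ1.symm ▸ hk) (by rw [hQ1, e'])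
        obtain ⟨β, hβ, h⟩ := hcl' s f hf e
        by_cases hU : β ∈ autInducedBy ⊤ Q
        · obtain ⟨g, -, hg⟩ := mem_autInducedBy.1 hU
          refine ⟨_, Mor.conj F le_top (mem_top (g * s⁻¹)), fun y hy => ?_⟩
          obtain ⟨y', hy', rfl⟩ := (isHomOn_conj Q s).mem_img.1 hy
          rw [h y' hy', hg y' hy']
          group
        · refine ⟨f, hf.mono ?_, fun _ _ => rfl⟩
          rintro g ⟨-, hg, r, -, hr⟩
          have hn : s⁻¹ * g * s ∈ normalizer (Q : Set P) := mem_normalizer_of_conj_mem fun y hy => by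
            obtain ⟨y', hy', e1⟩ := (isHomOn_conj Q s).mem_img.1 (conj_mem_of_mem_normalizer hg
              (mem_img_of_mem (fun y => s * y * s⁻¹) hy))
            rwa [show s⁻¹ * g * s * y * (s⁻¹ * g * s)⁻¹ = s⁻¹ * (g * (s * y * s⁻¹) * g⁻¹) * s by
              group, ← e1, show s⁻¹ * (s * y' * s⁻¹) * s = y' by group]
          have := (conjAut_mem_Inn_iff le_top h3 (mem_top _) hn).1 (h2 β hβ hU _
            (conjAut_mem_autInducedBy hn (mem_top _)) (mem_autInducedBy.2 ⟨r, mem_top r,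
              fun y hy => ?_⟩))
          · have := mem_img_of_mem (fun y => s * y * s⁻¹) this
            simpa [mul_assoc] using this
          · have h6 := extAut_mem β⁻¹ hy
            have h7 := hr _ (mem_img_of_mem (fun y => s * y * s⁻¹) h6)
            rw [h _ h6, extAut_apply_inv] at h7
            rw [extAut_mul_apply, extAut_mul_apply, extAut_conjAut hn h6,
              ← h _ (conj_mem_of_mem_normalizer hn h6), ← h7]
            congr 1
            group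
  · rintro _ _ ⟨rfl, β, hβ, rfl⟩
    exact ⟨Or.inr ⟨1, hQ1⟩, (mem_autGroup le_top).1 (hle hβ)⟩
  · push Not at hH
    by_cases hs : ∃ s : P, ∀ y ∈ R, s * y * s⁻¹ ∈ Q
    · obtain ⟨s, hs⟩ := hs
      have hc := (Mor.conj F (le_top : R ≤ ⊤) (mem_top s)).isConj
      have hR' := centric_of_isConj hR hc
      have hlt : (img R fun y => s * y * s⁻¹) < Q := lt_of_le_of_ne (img_le_iff.2 hs) fun e =>
        hH.2 s⁻¹ (by
          rw [← e, (isHomOn_conj R s).img_img]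
          exact img_eq_self_of_eqOn fun y _ => by simp [mul_assoc])
      refine ⟨_, hc, hstar _ hR' hlt.ne_top (isPGroup_of_forall_coprime_eq_one fun β hβ hc => ?_)⟩
      exact h5 _ hlt (centric_centralizerIn_le hR') β (Nat.coprime_two_right.1 hc)
        (gen_fix hz hΔ ((hF _ _).1 ((mem_autGroup le_top).1 hβ))
          (centric_centralizerIn_le hR' ⟨mem_top z, fun y _ => hz y⟩))
    · exact ⟨R, isConj_refl F le_top, hstar R hR hH.1 ((isPGroup_autInducedBy hS R).to_le (hin R hs))⟩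

end Gen

theorem exists_sat_three (hP : IsPGroup 2 P) {t : P} (ht : t ∈ normalizer (Q : Set P))
    (htQ : t ∉ Q) (hN : ∀ g ∈ normalizer (Q : Set P), g ∈ Q ∨ t⁻¹ * g ∈ Q)
    (h3 : centralizerIn ⊤ Q ≤ Q) {α : MulAut Q} (a3 : α * α * α = 1) (a1 : α ≠ 1)
    (aτ : conjAut Q t ht * α * (conjAut Q t ht)⁻¹ * α ∈ Inn Q) {z : P} (hz : ∀ g, Commute g z)
    (az : extAut α z = z)
    (h5 : ∀ R < Q, centralizerIn ⊤ R ≤ R → ∀ β : MulAut R, Odd (orderOf β) → extAut β z = z →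
      β = 1) :
    ∃ F : FusionSystem (⊤ : Subgroup P), F.IsSaturated 2 ∧ F ≠ innerFusionSystem ⊤ := by
  have : Fact (Nat.Prime 2) := ⟨Nat.prime_two⟩
  have hI := innNormal Q
  have hIU : Inn Q ≤ autInducedBy ⊤ Q := Inn_eq_autInducedBy Q ▸ autInducedBy_mono le_top Q
  have hα : ∀ V : Subgroup (MulAut Q), IsPGroup 2 V → α ∉ V := fun V hV hh => a1 (congrArg Subtype.val
    (eq_one_of_pow_coprime hV (x := ⟨α, hh⟩) (n := 3) (by decide)
      (Subtype.ext ((pow_three' α).trans a3))))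
  have hU := isPGroup_autInducedBy (isPGroup_top hP) Q
  have h1 : ∀ u ∈ autInducedBy ⊤ Q, u ∈ Inn Q ∨ u * α * u⁻¹ * α ∈ Inn Q := fun u hu => by
    obtain ⟨g, hg, -, rfl⟩ := mem_autInducedBy'.1 hu
    refine (hN g hg).imp (fun h => conjAut_mem_Inn h) fun h => ?_
    obtain ⟨i, hi, e⟩ : ∃ i ∈ Inn Q, conjAut Q g hg = conjAut Q t ht * i :=
      ⟨_, conjAut_mem_Inn h, aut_ext fun y hy => by
        rw [extAut_mul_apply, extAut_conjAut _ hy, extAut_conjAut _ hy,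
          extAut_conjAut _ (conj_mem_of_mem_normalizer (le_normalizer h) hy)]
        group⟩
    have := mul_mem (hI.conj_mem _ (mul_mem hi (hI.conj_mem _ (inv_mem hi) α)) (conjAut Q t ht)) aτ
    rw [e]
    convert this using 1
    group
  have h2 : autInducedBy ⊤ Q ≤ normalizer ((Inn Q ⊔ zpowers α : Subgroup _) : Set (MulAut Q)) := by
    refine le_normalizer_of_conj_mem fun u hu => ?_
    have : Inn Q ⊔ zpowers α ≤ (Inn Q ⊔ zpowers α).comap (MulAut.conj u).toMonoidHom :=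
      sup_le (fun k hk => mem_sup_left (hI.conj_mem k hk u)) (zpowers_le.2 ?_)
    · exact this
    · change u * α * u⁻¹ ∈ Inn Q ⊔ zpowers α
      rcases h1 u hu with h | h
      · exact mul_mem (mul_mem (mem_sup_left h) (mem_sup_right (mem_zpowers α)))
          (mem_sup_left (inv_mem h))
      · simpa using mul_mem (mem_sup_left h : _ ∈ Inn Q ⊔ zpowers α)
          (mem_sup_right (inv_mem (mem_zpowers α)))
  have h4 : ∀ β ∈ autInducedBy ⊤ Q ⊔ (Inn Q ⊔ zpowers α), ∃ u ∈ autInducedBy ⊤ Q,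
      β = u ∨ β = u * α ∨ β = u * α⁻¹ := fun β hβ => by
    obtain ⟨u, hu, _, hk, rfl⟩ := (Core.mem_sup_of_le_normalizer_right h2).1 hβ
    obtain ⟨i, hi, _, ⟨k, rfl⟩, rfl⟩ := mem_sup_of_normal_left.1 hk
    refine ⟨u * i, mul_mem hu (hIU hi), ?_⟩
    have e : α ^ (3 : ℤ) = 1 := by rw [zpow_ofNat, pow_three', a3]
    have e' : α ^ k = α ^ (k % 3) := zpow_eq_zpow_emod k e
    have : k % 3 = 0 ∨ k % 3 = 1 ∨ k % 3 = 2 := by omega
    change u * (i * α ^ k) = _ ∨ u * (i * α ^ k) = _ ∨ u * (i * α ^ k) = _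
    rcases this with h | h | h <;> rw [e', h]
    · simp
    · simp [mul_assoc]
    · refine Or.inr (Or.inr ?_)
      rw [mul_assoc, show α⁻¹ = α ^ (2 : ℤ) by
        rw [inv_eq_iff_mul_eq_one, zpow_two, ← mul_assoc, a3]]
  refine (exists_sat hP (Δ := autInducedBy ⊤ Q ⊔ (Inn Q ⊔ zpowers α))
    (sylIn_of_max le_sup_left hU fun V hV a b β hβ => ?_) (fun β hβ hβU u hu hc => ?_) h3
    (fun e => htQ (e ▸ mem_top t)) hz (fun β hβ => ?_) h5).imp fun F ⟨hF, hle⟩ =>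
    ⟨hF, fun e => hα _ hU (mem_autInducedBy.2 (mor_inner_iff.1 (e ▸ (mem_autGroup le_top).1
      (hle (mem_sup_right (mem_sup_right (mem_zpowers α)))))).2)⟩
  · obtain ⟨u, hu, rfl | rfl | rfl⟩ := h4 β (b hβ)
    · exact hu
    · exact absurd ((Subgroup.mul_mem_cancel_left _ (a hu)).1 hβ) (hα V hV)
    · exact absurd (inv_mem_iff.1 ((Subgroup.mul_mem_cancel_left _ (a hu)).1 hβ)) (hα V hV)
  · refine (h1 u hu).resolve_right fun h => hα _ hU ?_
    have e : α = α⁻¹ * α⁻¹ := by rw [← mul_inv_rev, eq_inv_iff_mul_eq_one, ← mul_assoc, a3]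
    obtain ⟨v, hv, rfl | rfl | rfl⟩ := h4 β hβ
    · exact absurd hv hβU
    · have := inv_mem (mul_mem (mul_mem (mul_mem (mul_mem (inv_mem hv) hc) hv) (inv_mem hu)) (hIU h))
      rw [e]
      convert this using 1
      group
    · have := mul_mem (inv_mem (hIU (hI.conj_mem _ h α⁻¹)))
        (mul_mem (mul_mem (mul_mem (inv_mem hv) hc) hv) (inv_mem hu))
      rw [e]
      convert this using 1
      group
  · have hzQ : z ∈ Q := h3 ⟨mem_top z, fun y _ => hz y⟩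
    have h6 : ∀ u ∈ autInducedBy ⊤ Q, extAut u z = z := fun u hu => by
      obtain ⟨g, -, hg⟩ := mem_autInducedBy.1 hu
      rw [hg z hzQ, (hz g).eq, mul_inv_cancel_right]
    obtain ⟨u, hu, rfl | rfl | rfl⟩ := h4 β hβ
    · exact h6 _ hu
    · rw [extAut_mul_apply, az, h6 u hu]
    · rw [extAut_mul_apply, show extAut α⁻¹ z = z by rw [← az, extAut_inv_apply, az], h6 u hu]

section Alpha

variable {E : Type*} [Group E] [Finite E]

theorem mul_mem_iff_of_ix {K : Subgroup E} (h : ∀ a b, a ∉ K → b ∉ K → a * b ∈ K) {a b : E} :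
    a * b ∈ K ↔ (a ∈ K ↔ b ∈ K) := by
  by_cases ha : a ∈ K
  · simp [ha, Subgroup.mul_mem_cancel_left _ ha]
  · by_cases hb : b ∈ K
    · simp [hb, Subgroup.mul_mem_cancel_right _ hb]
    · simp [ha, hb, h a b ha hb]

theorem exists_twist {K : Subgroup E} (h : ∀ a b, a ∉ K → b ∉ K → a * b ∈ K) {i : E} (hi : i ∈ K)
    (h1 : ∀ q ∈ K, Commute q i) (h2 : ∀ q ∉ K, q * i * q⁻¹ = i⁻¹) :
    ∃ σ : MulAut E, (∀ q ∈ K, σ q = q) ∧ ∀ q ∉ K, σ q = i * q := by
  classical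
  let φ : E →* E := MonoidHom.mk' (fun q => if q ∈ K then q else i * q) fun a b => by
    by_cases ha : a ∈ K <;> by_cases hb : b ∈ K <;>
      simp only [mul_mem_iff_of_ix h, ha, hb, if_true, if_false, iff_self, iff_false, iff_true,
        not_true]
    · rw [← mul_assoc, ← (h1 a ha).eq, mul_assoc]
    · rw [mul_assoc]
    · rw [show i * a * (i * b) = i * (a * i * a⁻¹) * (a * b) by group, h2 a ha]; simp
  have hφ : Function.Injective φ := (injective_iff_map_eq_one φ).2 fun q hq => by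
    change (if q ∈ K then q else i * q) = 1 at hq
    split_ifs at hq with h3
    · exact hq
    · exact absurd ((Subgroup.mul_mem_cancel_left _ hi).1 (hq ▸ one_mem K)) h3
  exact ⟨MulEquiv.ofBijective φ (Finite.injective_iff_bijective.1 hφ), fun q hq => if_pos hq,
    fun q hq => if_neg hq⟩

theorem cases_of_ix {K L : Subgroup E} (hK : ∀ a b, a ∉ K → b ∉ K → a * b ∈ K)
    (hL : ∀ a b, a ∉ L → b ∉ L → a * b ∈ L) {i j : E} (i1 : i ∈ K) (i2 : i ∉ L) (j1 : j ∉ K)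
    (j2 : j ∈ L) (q : E) :
    q ∈ K ⊓ L ∨ i⁻¹ * q ∈ K ⊓ L ∨ j⁻¹ * q ∈ K ⊓ L ∨ (i * j)⁻¹ * q ∈ K ⊓ L := by
  simp only [mem_inf, mul_mem_iff_of_ix hK, mul_mem_iff_of_ix hL, inv_mem_iff, i1, i2, j1, j2]
  tauto

theorem exists_alpha {K L : Subgroup E} (hK : ∀ a b, a ∉ K → b ∉ K → a * b ∈ K)
    (hL : ∀ a b, a ∉ L → b ∉ L → a * b ∈ L) {i j : E} (i1 : i ∈ K) (i2 : i ∉ L) (j1 : j ∉ K)
    (j2 : j ∈ L) (ci : ∀ q ∈ K, Commute q i) (ci' : ∀ q ∉ K, q * i * q⁻¹ = i⁻¹)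
    (cj : ∀ q ∈ L, Commute q j) (cj' : ∀ q ∉ L, q * j * q⁻¹ = j⁻¹) {τ : MulAut E} (ti : τ i = i)
    (tj : τ j = i * j) (tC : ∀ q ∈ K ⊓ L, τ q ∈ K ⊓ L) :
    ∃ α : MulAut E, α * α * α = 1 ∧ α ≠ 1 ∧ τ * α * τ⁻¹ * α ∈ Inn E ∧ ∀ q ∈ K ⊓ L, α q = q := by
  obtain ⟨σ, s1, s2⟩ := exists_twist hK i1 ci ci'
  obtain ⟨σ', r1, r2⟩ := exists_twist hL j2 cj cj'
  have e1 : i * j * i = j := by
    rw [mul_assoc, mul_inv_eq_iff_eq_mul.1 (ci' j j1), mul_inv_cancel_left]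
  have e2 : j * i * j = i := by
    rw [mul_assoc, mul_inv_eq_iff_eq_mul.1 (cj' i i2), mul_inv_cancel_left]
  obtain ⟨α, a1, a2, a3⟩ : ∃ α : MulAut E, α i = j ∧ α j = i * j ∧ ∀ q ∈ K ⊓ L, α q = q :=
    ⟨σ * σ', by rw [MulAut.mul_apply, r2 i i2, map_mul, s2 j j1, s1 i i1, e1],
      by rw [MulAut.mul_apply, r1 j j2, s2 j j1],
      fun q hq => by rw [MulAut.mul_apply, r1 q hq.2, s1 q hq.1]⟩
  have a4 : α (i * j) = i := by rw [map_mul, a1, a2, ← mul_assoc, e2]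
  have ext : ∀ φ ψ : MulAut E, φ i = ψ i → φ j = ψ j → (∀ q ∈ K ⊓ L, φ q = ψ q) → φ = ψ :=
    fun φ ψ b1 b2 b3 => MulEquiv.ext fun q => by
      rcases cases_of_ix hK hL i1 i2 j1 j2 q with h | h | h | h <;> have := b3 _ h
      · exact this
      · simpa [b1] using this
      · simpa [b2] using this
      · simpa [b1, b2] using this
  refine ⟨α, ext _ _ ?_ ?_ fun q hq => ?_, fun e => j1 ?_, ⟨i * j, ?_⟩, a3⟩
  · simp only [MulAut.mul_apply, a1, a2, a4, MulAut.one_apply]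
  · simp only [MulAut.mul_apply, a1, a2, a4, MulAut.one_apply]
  · simp only [MulAut.mul_apply, a3 q hq, MulAut.one_apply]
  · rwa [← a1, e]
  · have : α * (MulAut.conj (i * j))⁻¹ * τ * α = τ := ext _ _ ?_ ?_ fun q hq => ?_
    · calc MulAut.conj (i * j) = MulAut.conj (i * j) * α⁻¹ * τ * τ⁻¹ * α := by group
        _ = MulAut.conj (i * j) * α⁻¹ * (α * (MulAut.conj (i * j))⁻¹ * τ * α) * τ⁻¹ * α := by
          rw [this]
        _ = _ := by group
    · simp only [MulAut.mul_apply, a1, tj, ti, MulAut.conj_inv_apply, inv_mul_cancel, one_mul, a4]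
    · simp only [MulAut.mul_apply, a2, map_mul τ, tj, ti, MulAut.conj_inv_apply]
      rw [show (i * j)⁻¹ * (i * (i * j)) * (i * j) = j⁻¹ * (i * j * i) * j by group, e1]
      simp [a2]
    · have h := tC q hq
      simp only [MulAut.mul_apply, a3 q hq, MulAut.conj_inv_apply]
      rw [mul_assoc, ((ci _ h.1).mul_right (cj _ h.2)).eq, inv_mul_cancel_left, a3 _ h]

end Alpha

end CfsgLib.Bicyc3
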