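import Mathlib
import Cfsg.Agent.Lib.Bicyc3.Sat
import Cfsg.Agent.Lib.Bicyc3.NonCyc
import Cfsg.Agent.Lib.Fusion.EssSmall

/-! A nonmetacyclic bicyclic `2`-group with cyclic derived subgroup has a saturated fusion system
that is not inner. -/

set_option autoImplicit false
set_option linter.unusedSectionVars false

namespace CfsgLib.Bicyc3

open Subgroup Cfsg Cfsg.FusionSystem Fusion

variable {P W : Type*} [Group P] [Finite P] [AddCommGroup W] {e : W → P}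
  {ρ : P → Module.End ℤ W} {ξ : Module.End ℤ W} {c z : W} {x : P} {M N N' : Subgroup P}

theorem exists_sat_pair (hP : IsPGroup 2 P) {Q K L : Subgroup P} {t i j z : P}
    (ht : t ∈ normalizer (Q : Set P)) (htQ : t ∉ Q)
    (hN : ∀ g ∈ normalizer (Q : Set P), g ∈ Q ∨ t⁻¹ * g ∈ Q) (h3 : centralizerIn ⊤ Q ≤ Q)
    (hi : i ∈ Q) (hj : j ∈ Q) (hK : ∀ a ∈ Q, ∀ b ∈ Q, a ∉ K → b ∉ K → a * b ∈ K)
    (hL : ∀ a ∈ Q, ∀ b ∈ Q, a ∉ L → b ∉ L → a * b ∈ L) (i1 : i ∈ K) (i2 : i ∉ L) (j1 : j ∉ K)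
    (j2 : j ∈ L) (ci : ∀ q ∈ Q, q ∈ K → Commute q i) (ci' : ∀ q ∈ Q, q ∉ K → q * i * q⁻¹ = i⁻¹)
    (cj : ∀ q ∈ Q, q ∈ L → Commute q j) (cj' : ∀ q ∈ Q, q ∉ L → q * j * q⁻¹ = j⁻¹)
    (ti : t * i * t⁻¹ = i) (tj : t * j * t⁻¹ = i * j)
    (tC : ∀ q ∈ Q, q ∈ K → q ∈ L → t * q * t⁻¹ ∈ K ∧ t * q * t⁻¹ ∈ L) (hz : ∀ g, Commute g z)
    (z1 : z ∈ K) (z2 : z ∈ L)
    (h5 : ∀ R < Q, centralizerIn ⊤ R ≤ R → ∀ β : MulAut R, Odd (orderOf β) → extAut β z = z →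
      β = 1) :
    ∃ F : FusionSystem (⊤ : Subgroup P), F.IsSaturated 2 ∧ F ≠ innerFusionSystem ⊤ := by
  obtain ⟨α, a1, a2, a3, a4⟩ := exists_alpha (E := Q) (K := K.subgroupOf Q) (L := L.subgroupOf Q)
    (fun a b => hK a a.2 b b.2) (fun a b => hL a a.2 b b.2) (i := ⟨i, hi⟩) (j := ⟨j, hj⟩) i1 i2 j1 j2
    (fun q hq => Subtype.ext (ci q q.2 hq)) (fun q hq => Subtype.ext (ci' q q.2 hq))
    (fun q hq => Subtype.ext (cj q q.2 hq)) (fun q hq => Subtype.ext (cj' q q.2 hq))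
    (τ := conjAut Q t ht) (Subtype.ext ti) (Subtype.ext tj) fun q hq => tC q q.2 hq.1 hq.2
  have hzQ : z ∈ Q := h3 ⟨mem_top z, fun y _ => hz y⟩
  exact exists_sat_three hP ht htQ hN h3 a1 a2 a3 hz
    (by rw [extAut_apply α hzQ, a4 ⟨z, hzQ⟩ ⟨z1, z2⟩]) h5

theorem exists_stab {ζ : P} (hζ : ∀ g, Commute g ζ) (h2 : ζ * ζ = 1) (j : P) :
    ∃ Q : Subgroup P, ∀ g, g ∈ Q ↔ g * j * g⁻¹ = j ∨ g * j * g⁻¹ = ζ * j := by
  have h1 : ∀ g : P, g * (ζ * j) * g⁻¹ = ζ * (g * j * g⁻¹) := fun g => by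
    rw [← mul_assoc, (hζ g).eq]; group
  refine ⟨⟨⟨⟨{g | g * j * g⁻¹ = j ∨ g * j * g⁻¹ = ζ * j}, fun {a b} ha hb => ?_⟩, Or.inl (by simp)⟩,
    fun {a} ha => ?_⟩, fun g => Iff.rfl⟩
  · change _ ∨ _
    rw [show a * b * j * (a * b)⁻¹ = a * (b * j * b⁻¹) * a⁻¹ by group]
    rcases hb with hb | hb <;> rw [hb]
    · exact ha
    · rw [h1]
      rcases ha with ha | ha <;> rw [ha]
      · exact Or.inr rfl
      · exact Or.inl (by rw [← mul_assoc, h2, one_mul])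
  · refine Or.imp (fun ha => ?_) (fun ha => ?_) ha
    · conv_lhs => rw [← ha]
      group
    · have := h1 a⁻¹
      rw [← ha, show a⁻¹ * (a * j * a⁻¹) * a⁻¹⁻¹ = j by group] at this
      conv_rhs => rw [this, ← mul_assoc, h2, one_mul]

/-- The module is cyclic. -/
structure CY (ξ : Module.End ℤ W) (c z : W) : Prop where
  gen : ∀ a, ∃ k : ℤ, a = k • c
  xi : ∃ l : ℤ, ξ c = (2 * l) • c
  z2 : (2 : ℤ) • z = 0
  z0 : z ≠ 0
  uniq : ∀ v : W, (2 : ℤ) • v = 0 → v = 0 ∨ v = z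

namespace Su

variable (h : Su e ρ ξ c x M N N')
include h

theorem eq_top {K : Subgroup P} {b : P} (hN : b ∉ N) (hx : x ∈ K) (hK : b ∈ K) :
    K = ⊤ := by
  by_contra hne
  rcases h.le_cases hne with h1 | h1 | h1
  · exact hN (h1 hK)
  · exact h.xM (((h.rel x).1 (h1 hx)).2 h.xN)
  · exact h.xM (h1 hx)

theorem not_le {b : P} (hN : b ∉ N) : ¬ commutator P ≤ zpowers b := fun hh =>
  h.nm (PLocal.Rank2.isMetacyclic_of_pair hh (y := x)
    (h.eq_top hN (mem_sup_right (mem_zpowers x)) (mem_sup_left (mem_zpowers b))))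

theorem cy (hc : IsCyclic (commutator P)) : ∃ z, CY ξ c z := by
  obtain ⟨⟨γ, hγ⟩, hg⟩ := hc.exists_generator
  obtain ⟨γ, rfl⟩ := (h.rng γ).1 hγ
  have h1 : ∀ a, ∃ k : ℤ, a = k • γ := fun a => by
    obtain ⟨k, hk⟩ := hg ⟨_, h.mem a⟩
    exact ⟨k, h.inj (by rw [h.zsmul]; exact (congrArg Subtype.val hk).symm)⟩
  obtain ⟨a, ha⟩ : ∃ a, ξ c = (2 : ℤ) • a := by
    obtain ⟨m, hm⟩ := h1 (ξ γ)
    obtain ⟨k, hk⟩ := h1 c
    obtain ⟨μ, hμ⟩ := h.xi2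
    rcases Int.even_or_odd' m with ⟨m, rfl | rfl⟩
    · exact ⟨(k * m) • γ, by rw [hk, map_zsmul, hm]; module⟩
    · have h2 := hμ γ
      rw [hm, map_zsmul, hm] at h2
      have h3 : γ = 0 := h.eq_zero_of_odd (k := (2 * m + 1) * (2 * (m - μ) + 1))
        ((odd_two_mul_add_one _).mul (odd_two_mul_add_one _))
        (by linear_combination (norm := module) h2)
      exact ⟨0, by simp [hk, h3]⟩
  have h2 : ∀ a, ∃ k : ℤ, a = k • c := by
    obtain ⟨i, j, e1⟩ := h.gen a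
    obtain ⟨m, hm⟩ := h.exists_smul_of_odd (k := 1 - 2 * j) (l := 2 * i) (a := ξ c) (d := c)
      (odd_one.sub_even (even_two_mul j)) (by
        rw [e1] at ha; linear_combination (norm := module) ha)
    intro a
    obtain ⟨i, j, rfl⟩ := h.gen a
    exact ⟨i + j * m, by rw [hm]; module⟩
  obtain ⟨n, z1, z2⟩ := exists_invol_pow h.pg (y := e c) fun hh => by
    obtain ⟨b, -, hN, -⟩ := h.exb
    refine h.not_le hN fun g hg => ?_
    obtain ⟨a, rfl⟩ := (h.rng g).1 hg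
    obtain ⟨k, rfl⟩ := h2 a
    rw [h.zsmul, hh, one_zpow]
    exact one_mem _
  rw [← zpow_natCast (e c), ← h.zsmul] at z1 z2
  obtain ⟨k, rfl⟩ := h2 a
  refine ⟨(n : ℤ) • c, h2, ⟨k, by rw [ha, mul_smul]⟩, h.eq_one.1 ((h.two _).trans z2),
    mt h.eq_one.2 z1, fun v hv => or_iff_not_imp_left.2 fun hv0 => h.inj ?_⟩
  exact TwoGrp.Bic.eq_of_sq_of_isCyclic hc (h.mem _) (h.mem _) (by rw [← h.two, hv, h.zero]) z2
    (mt h.eq_one.1 hv0) z1

variable (hy : CY ξ c z)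
include hy

theorem rho_z (g : P) : ρ g z = z :=
  (hy.uniq _ (by rw [← map_zsmul, hy.z2, map_zero])).resolve_left fun hh => hy.z0 (h.rho_eq_zero hh)

theorem inverts {w : P} (hw : w ∈ M) (hN : w ∉ N) {β : W} (hβ : w ^ 2 = e β) (a : W) :
    ρ w a = -a := by
  obtain ⟨k, hk⟩ := (h.out w hw hN).2
  obtain ⟨l, hl⟩ := hy.xi
  have h1 : e (ρ x β) = e (c + k • ξ c + ρ w (c + k • ξ c) + β) := by
    rw [← h.conj, h.add, h.add, ← h.conj, ← hβ, ← conj_pow, hk, pow_two, pow_two]; group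
  have h2 := h.inj h1
  have h3 := h.V_of_commute hw hN (hβ ▸ (Commute.refl w).pow_right 2)
  obtain ⟨m, rfl⟩ := hy.gen β
  rw [h.xi, map_zsmul, hl, map_add, map_zsmul, map_zsmul] at h2
  have h4 : ρ w c + c = 0 := h.eq_zero_of_odd (k := 2 * (k * l) + 1) (odd_two_mul_add_one _)
    (by linear_combination (norm := module) l • h3 - h2)
  obtain ⟨n, rfl⟩ := hy.gen a
  rw [map_zsmul]
  linear_combination (norm := module) n • h4

theorem common {j : P} (hj : j ∈ M) (hN : j ∉ N) {ι : W} (h2 : j ^ 2 = e ((2 : ℤ) • ι))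
    (h0 : ι ≠ 0) (h4 : (4 : ℤ) • ι = 0) (hρ : ∀ g, ρ g ι = ι ∨ ρ g ι = -ι)
    (hι : ∀ a : W, (2 : ℤ) • a = 0 ∨ (2 : ℤ) • a = (2 : ℤ) • ι →
      a = 0 ∨ a = (2 : ℤ) • ι ∨ a = ι ∨ a = -ι) :
    ∃ (Q : Subgroup P) (t : P), (∀ g, g ∈ Q ↔ g * j * g⁻¹ = j ∨ g * j * g⁻¹ = e ((2 : ℤ) • ι) * j) ∧
      (∀ a, e a ∈ Q ↔ (2 : ℤ) • a = 0 ∨ (2 : ℤ) • a = (2 : ℤ) • ι) ∧
      t ∈ normalizer (Q : Set P) ∧ t ∉ Q ∧ (∀ g ∈ normalizer (Q : Set P), g ∈ Q ∨ t⁻¹ * g ∈ Q) ∧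
      centralizerIn ⊤ Q ≤ Q ∧ j ∈ Q ∧ t * e ι * t⁻¹ = e ι ∧ t * j * t⁻¹ = e ι * j := by
  have hinv := h.inverts hy hj hN h2
  obtain ⟨Q, hQ⟩ := exists_stab (ζ := e ((2 : ℤ) • ι)) (fun g => h.commute_iff.2 (by
    rw [map_zsmul]
    rcases hρ g with hh | hh <;> rw [hh]
    linear_combination (norm := module) -h4))
    (by rw [← h.add, h.eq_one]; linear_combination (norm := module) h4) j
  have hQ' : ∀ g a, g * j * g⁻¹ = e a * j → (g ∈ Q ↔ a = 0 ∨ a = (2 : ℤ) • ι) := fun g a hg => by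
    rw [hQ, hg, mul_eq_right, h.eq_one, mul_left_inj, h.inj.eq_iff]
  have hA : ∀ a, e a ∈ Q ↔ (2 : ℤ) • a = 0 ∨ (2 : ℤ) • a = (2 : ℤ) • ι := fun a =>
    hQ' _ _ (by rw [h.conj_e, hinv, sub_neg_eq_add, two_zsmul])
  have hm : ∀ (g k : P) (a b : W), g * j * g⁻¹ = e a * j → k * j * k⁻¹ = e b * j →
      g * k * j * (g * k)⁻¹ = e (ρ g b + a) * j := fun g k a b ha hb => by
    rw [show g * k * j * (g * k)⁻¹ = g * (k * j * k⁻¹) * g⁻¹ by group, hb, h.add, ← h.conj,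
      mul_assoc (g * e b * g⁻¹), ← ha]
    group
  have hjj : j * j * j⁻¹ = e 0 * j := by simp [h.zero]
  obtain ⟨t, t1, t2⟩ : ∃ t : P, ρ t ι = ι ∧ t * j * t⁻¹ = e ι * j := by
    obtain ⟨t, ht⟩ := h.exists_conj hj hN ι
    rcases hρ t with hh | hh
    · exact ⟨t, hh, ht⟩
    · refine ⟨e ι * (j * t), by rw [h.rho_mul, h.rho_e, h.rho_mul, hh, hinv, neg_neg], ?_⟩
      rw [hm _ _ _ _ (h.conj_e ι j) (hm _ _ _ _ hjj ht), h.rho_e, hinv]
      congr 2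
      abel
  have t3 : ρ t⁻¹ ι = ι := by rw [← t1, ← h.rho_mul, inv_mul_cancel, h.rho_one, t1]
  have t4 : t⁻¹ * j * t⁻¹⁻¹ = e (-ι) * j := by
    have := h.conj t⁻¹ ι
    rw [t3] at this
    rw [h.neg, eq_inv_mul_iff_mul_eq, ← this,
      show t⁻¹ * e ι * t⁻¹⁻¹ * (t⁻¹ * j * t⁻¹⁻¹) = t⁻¹ * (e ι * j) * t by group, ← t2]
    group
  have hjQ : j ∈ Q := (hQ' _ _ hjj).2 (Or.inl rfl)
  refine ⟨Q, t, hQ, hA, mem_normalizer_of_conj_mem fun q hq => ?_, fun hh => h0 ?_, fun g hg => ?_,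
    fun g hg => (hQ g).2 (Or.inl (mul_inv_eq_iff_eq_mul.2 (hg.2 j hjQ).symm)), hjQ,
    by rw [h.conj, t1], t2⟩
  · obtain ⟨a, ha⟩ := h.der q j
    rw [mul_assoc, hQ' _ _ (hm _ _ _ _ t2 (hm _ _ _ _ ha t4)), map_neg]
    rcases (hQ' _ _ ha).1 hq with rfl | rfl <;> rcases hρ q with hh | hh <;>
      simp only [hh, map_add, map_neg, map_zsmul, map_zero, t1, neg_neg]
    · exact Or.inl (by module)
    · exact Or.inr (by module)
    · exact Or.inr (by module)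
    · exact Or.inl (by linear_combination (norm := module) h4)
  · rcases (hQ' _ _ t2).1 hh with h5 | h5
    · exact h5
    · linear_combination (norm := module) -h5
  · obtain ⟨a, ha⟩ := h.der g j
    have h5 := conj_mem_of_mem_normalizer hg hjQ
    rw [ha, Subgroup.mul_mem_cancel_right _ hjQ, hA] at h5
    rw [hQ' _ _ ha, hQ' _ _ (hm _ _ _ _ t4 ha)]
    rcases hι a h5 with rfl | rfl | rfl | rfl
    · exact Or.inl (Or.inl rfl)
    · exact Or.inl (Or.inr rfl)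
    · exact Or.inr (Or.inl (by rw [t3, add_neg_cancel]))
    · exact Or.inr (Or.inr (by rw [map_neg, t3]; linear_combination (norm := module) -h4))

omit hy in
theorem mod_D {j : P} (hN : j ∉ N) : (commutator P ⊔ zpowers j).Normal ∧
    ∀ s : P, ∃ k : ℤ, (x ^ k)⁻¹ * s ∈ commutator P ⊔ zpowers j := by
  have hn : (commutator P ⊔ zpowers j).Normal := Normal.of_commutator_le _ le_sup_left
  refine ⟨hn, fun s => ?_⟩
  obtain ⟨_, ⟨k, rfl⟩, y, hy, rfl⟩ := mem_sup_of_normal_right.1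
    (h.eq_top (K := zpowers x ⊔ (commutator P ⊔ zpowers j)) hN (mem_sup_left (mem_zpowers x))
      (mem_sup_right (mem_sup_right (mem_zpowers j))) ▸ mem_top s)
  exact ⟨k, by simpa using hy⟩

theorem dihedral (hq : ∀ w ∈ M, w ∉ N → w ^ 2 ≠ e z) :
    ∃ F : FusionSystem (⊤ : Subgroup P), F.IsSaturated 2 ∧ F ≠ innerFusionSystem ⊤ := by
  have : Fact (Nat.Prime 2) := ⟨Nat.prime_two⟩
  obtain ⟨j, hj, hN, β, hβ⟩ := h.exb
  obtain rfl : β = 0 := (hy.uniq β (h.V_of_commute hj hN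
    (hβ ▸ (Commute.refl j).pow_right 2))).resolve_right fun hh => hq j hj hN (hh ▸ hβ)
  obtain ⟨Q, t, hQ, hA, t1, t2, t3, hC, hjQ, t4, t5⟩ := h.common hy hj hN (ι := z)
    (by rw [hβ, hy.z2]) hy.z0 (by linear_combination (norm := module) (2 : ℤ) • hy.z2)
    (fun g => Or.inl (h.rho_z hy g)) fun a ha => by
      rcases hy.uniq a (ha.elim id fun hh => hh.trans hy.z2) with hh | hh <;> simp [hh]
  simp only [hy.z2, h.zero, one_mul, or_self] at hQ hA hβ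
  have hz : ∀ g, Commute g (e z) := fun g => h.commute_iff.2 (h.rho_z hy g)
  have hz2 : e z * e z = 1 := h.sq_V (h.mem_V.2 hy.z2)
  have hz1 : e z ≠ 1 := mt h.eq_one.1 hy.z0
  have hzQ := (hA z).2 hy.z2
  have hcj : ∀ q ∈ Q, Commute q j := fun q hq => mul_inv_eq_iff_eq_mul.1 ((hQ q).1 hq)
  have hab : ∀ a ∈ Q, ∀ b ∈ Q, Commute a b := fun a ha b hb => by
    have := (h.mod_D hN).1
    refine comm_of_cyc (fun s _ => (h.mod_D hN).2 s) (fun s hs hs' r hr => ?_) ha hb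
    obtain ⟨y, hy', _, ⟨k, rfl⟩, rfl⟩ := mem_sup_of_normal_left.1 hs'
    obtain ⟨v, rfl⟩ := (h.rng y).1 hy'
    refine Commute.mul_left ?_ ((hcj r hr).zpow_right k).symm
    rcases hy.uniq v ((hA v).1 ((Subgroup.mul_mem_cancel_right _ (zpow_mem hjQ k)).1 hs)) with
      rfl | rfl
    · rw [h.zero]; exact Commute.one_left r
    · exact (hz r).symm
  obtain ⟨L, hL, hzL⟩ : ∃ L : Subgroup Q, IsCoatom L ∧ ⟨e z, hzQ⟩ ∉ L := by
    by_contra hn
    push Not at hn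
    obtain ⟨w, hw⟩ := exists_pow_eq_of_mem_frattini (p := 2)
      (fun a b : Q => Subtype.ext (hab a a.2 b b.2)) (Core.mem_frattini_iff.2 hn)
    have hw' : (w : P) ^ 2 = e z := congrArg Subtype.val hw
    have hM : (w : P) ∈ M := by_contra fun hh => h.sq _ hh z hw'
    by_cases hN' : (w : P) ∈ N
    · exact hq (w * j) (mul_mem hM hj) (by simp [mul_mem_iff_of_index_two h.iN, hN', hN])
        (by rw [(hcj w w.2).mul_pow, hw', hβ, mul_one])
    · exact hq w hM hN' hw'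
  have hi := Core.index_eq_of_isCoatom_of_isPGroup (h.pg.to_subgroup Q) hL
  have hL' : ∀ q (hq : q ∈ Q), q ∈ L.map Q.subtype ↔ ⟨q, hq⟩ ∈ L := fun q hq =>
    mem_map_iff_mem (f := Q.subtype) (x := ⟨q, hq⟩) Q.subtype_injective
  obtain ⟨j', j1, j2, j3, j4⟩ : ∃ j' ∈ Q, j' ∈ L.map Q.subtype ∧ j' * j' = 1 ∧
      t * j' * t⁻¹ = e z * j' := by
    by_cases hh : ⟨j, hjQ⟩ ∈ L
    · exact ⟨j, hjQ, (hL' j hjQ).2 hh, by rw [← pow_two, hβ], t5⟩
    · refine ⟨e z * j, mul_mem hzQ hjQ, (hL' _ _).2 ((mul_mem_iff_of_index_two hi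
        (a := ⟨_, hzQ⟩) (b := ⟨j, hjQ⟩)).2 (iff_of_false hzL hh)), ?_, ?_⟩
      · rw [← pow_two, (hz j).symm.mul_pow, hβ, pow_two, hz2, one_mul]
      · rw [← mul_assoc t, (hz t).eq, mul_assoc (e z), mul_assoc (e z), t5]
  have hK : ∀ a ∈ Q, a ∉ centralizer {t} → t * a * t⁻¹ = e z * a := fun a ha ha' => by
    obtain ⟨v, hv⟩ := h.der t a
    have h1 := conj_mem_of_mem_normalizer t1 ha
    rw [hv, Subgroup.mul_mem_cancel_right _ ha, hA] at h1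
    rcases hy.uniq v h1 with rfl | rfl
    · rw [h.zero, one_mul, mul_inv_eq_iff_eq_mul] at hv
      exact absurd (mem_centralizer_singleton_iff.2 hv.symm) ha'
    · exact hv
  refine exists_sat_pair h.pg (K := centralizer {t}) (L := L.map Q.subtype) (z := 1) t1 t2 t3 hC hzQ
    j1 (fun a ha b hb a1 b1 => mem_centralizer_singleton_iff.2 ?_) (fun a ha b hb a1 b1 => ?_)
    (mem_centralizer_singleton_iff.2 (hz t).symm) (mt (hL' _ hzQ).1 hzL) (fun hh => hz1 ?_) j2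
    (fun q _ _ => hz q) (fun q _ _ => ?_) (fun q hq _ => hab q hq j' j1) (fun q hq _ => ?_) t4 j4
    (fun q _ a b => ?_) (fun g => Commute.one_right g) (one_mem _) (one_mem _)
    fun R hR hc _ _ _ => absurd (fun q hq => hc ⟨mem_top q, fun r hr => hab r (hR.le hr) q hq⟩)
      hR.not_ge
  · rw [eq_comm, ← mul_inv_eq_iff_eq_mul, show t * (a * b) * t⁻¹ = t * a * t⁻¹ * (t * b * t⁻¹) by
      group, hK a ha a1, hK b hb b1, ← (hz a).eq, mul_assoc, ← mul_assoc (e z), hz2, one_mul]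
  · exact (hL' _ (mul_mem ha hb)).2 ((mul_mem_iff_of_index_two hi (a := ⟨a, ha⟩) (b := ⟨b, hb⟩)).2
      (iff_of_false (mt (hL' a ha).2 a1) (mt (hL' b hb).2 b1)))
  · rwa [← mem_centralizer_singleton_iff.1 hh, mul_inv_cancel_right, right_eq_mul] at j4
  · rw [(hz q).eq, mul_inv_cancel_right, eq_inv_iff_mul_eq_one, hz2]
  · rw [(hab q hq j' j1).eq, mul_inv_cancel_right, eq_inv_iff_mul_eq_one, j3]
  · rw [← mem_centralizer_singleton_iff.1 a, mul_inv_cancel_right]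
    exact ⟨a, b⟩

theorem quaternion {j : P} (hj : j ∈ M) (hN : j ∉ N) (hq : j ^ 2 = e z) :
    ∃ F : FusionSystem (⊤ : Subgroup P), F.IsSaturated 2 ∧ F ≠ innerFusionSystem ⊤ := by
  obtain ⟨ι, hι⟩ : ∃ ι, (2 : ℤ) • ι = z := by
    obtain ⟨k, hk⟩ := hy.gen z
    rcases Int.even_or_odd' k with ⟨k, rfl | rfl⟩
    · exact ⟨k • c, by rw [hk, mul_smul]⟩
    · refine absurd (fun g hg => ?_) (h.not_le hN)
      obtain ⟨a, rfl⟩ := (h.rng g).1 hg
      obtain ⟨l, rfl⟩ := hy.gen a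
      rw [h.zsmul]
      refine zpow_mem (TwoGrp.Bic.mem_of_odd h.pg (odd_two_mul_add_one k) ?_) l
      rw [← h.zsmul, ← hk, ← hq]
      exact pow_mem (mem_zpowers j) 2
  have h1 : ∀ a : W, (2 : ℤ) • a = z → a = ι ∨ a = -ι := fun a ha =>
    (hy.uniq (a - ι) (by rw [smul_sub, ha, hι, sub_self])).imp sub_eq_zero.1 fun hh => by
      linear_combination (norm := module) hh - hι + (2 : ℤ) • hι + hy.z2
  have hρ : ∀ g, ρ g ι = ι ∨ ρ g ι = -ι := fun g => h1 _ (by rw [← map_zsmul, hι, h.rho_z hy])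
  obtain ⟨Q, t, hQ, hA, t1, t2, t3, hC, hjQ, t4, t5⟩ := h.common hy hj hN (ι := ι)
    (by rw [hq, hι]) (fun hh => hy.z0 (by rw [← hι, hh, smul_zero]))
    (by linear_combination (norm := module) (2 : ℤ) • hι + hy.z2) hρ fun a ha => by
      rw [hι] at ha ⊢
      rcases ha with ha | ha
      · exact (hy.uniq a ha).imp_right Or.inl
      · exact Or.inr (Or.inr (h1 a ha))
  rw [hι] at hQ hA
  have hz : ∀ g, Commute g (e z) := fun g => h.commute_iff.2 (h.rho_z hy g)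
  have hz2 : e z * e z = 1 := h.sq_V (h.mem_V.2 hy.z2)
  have hz1 : e z ≠ 1 := mt h.eq_one.1 hy.z0
  have hiQ := (hA ι).2 (Or.inr hι)
  have hi2 : e ι ^ 2 = e z := by rw [← h.two, hι]
  have hji : j * e ι * j⁻¹ = (e ι)⁻¹ := by rw [h.conj, h.inverts hy hj hN hq, h.neg]
  have mc : ∀ {a b : P}, a ∈ centralizer {b} ↔ Commute a b := mem_centralizer_singleton_iff
  have ci' : ∀ q : P, q ∉ centralizer {e ι} → q * e ι * q⁻¹ = (e ι)⁻¹ := fun q hq => by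
    rw [h.conj, (hρ q).resolve_left fun hh => hq (mc.2 (h.commute_iff.2 hh)), h.neg]
  have cj' : ∀ q ∈ Q, q ∉ centralizer {j} → q * j * q⁻¹ = j⁻¹ := fun q hq hq' => by
    rw [((hQ q).1 hq).resolve_left fun hh => hq' (mc.2 (mul_inv_eq_iff_eq_mul.1 hh)),
      eq_inv_iff_mul_eq_one, mul_assoc, ← pow_two, ‹j ^ 2 = e z›, hz2]
  have ix : ∀ a b y : P, a * y * a⁻¹ = y⁻¹ → b * y * b⁻¹ = y⁻¹ → a * b ∈ centralizer {y} :=
    fun a b y ha hb => mc.2 (mul_inv_eq_iff_eq_mul.1 (by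
      rw [show a * b * y * (a * b)⁻¹ = a * (b * y * b⁻¹) * a⁻¹ by group, hb, ← conj_inv, ha, inv_inv]))
  have j1 : j ∉ centralizer {e ι} := fun hh => hz1 (by
    rw [(mc.1 hh).eq, mul_inv_cancel_right, eq_inv_iff_mul_eq_one, ← pow_two] at hji
    rw [← hi2, hji])
  have i2 : e ι ∉ centralizer {j} := fun hh => j1 (mc.2 (mc.1 hh).symm)
  have hK : ∀ a ∈ Q, ∀ b ∈ Q, a ∉ centralizer {e ι} → b ∉ centralizer {e ι} →
      a * b ∈ centralizer {e ι} := fun a _ b _ a1 b1 => ix a b _ (ci' a a1) (ci' b b1)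
  have hL : ∀ a ∈ Q, ∀ b ∈ Q, a ∉ centralizer {j} → b ∉ centralizer {j} →
      a * b ∈ centralizer {j} := fun a ha b hb a1 b1 => ix a b _ (cj' a ha a1) (cj' b hb b1)
  refine exists_sat_pair h.pg (K := centralizer {e ι}) (L := centralizer {j}) (z := e z) t1 t2 t3 hC
    hiQ hjQ hK hL (mc.2 (Commute.refl _)) i2 j1 (mc.2 (Commute.refl _)) (fun q _ a => mc.1 a)
    (fun q _ => ci' q) (fun q _ a => mc.1 a) cj' t4 t5 (fun q _ a b => ?_) hz (mc.2 (hz _).symm)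
    (mc.2 (hz _).symm) fun R hR hc β hβ hβz => ?_
  · have a1 := (mc.1 a).map (MulAut.conj t)
    have b1 := (mc.1 b).map (MulAut.conj t)
    rw [MulAut.conj_apply t (e ι), t4] at a1
    rw [MulAut.conj_apply t j, t5] at b1
    exact ⟨mc.2 a1, mc.2 (by simpa using a1.inv_right.mul_right b1)⟩
  have hD := (h.mod_D hN).1
  have hCD : ∀ s ∈ centralizer {e ι} ⊓ centralizer {j}, s ∈ commutator P ⊔ zpowers j →
      s ∈ zpowers (e z) := by
    rintro s ⟨s1, s2⟩ hs'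
    obtain ⟨y, hy', _, ⟨k, rfl⟩, rfl⟩ := mem_sup_of_normal_left.1 hs'
    obtain ⟨v, rfl⟩ := (h.rng y).1 hy'
    have h2 : j ^ k ∈ centralizer {e ι} :=
      (Subgroup.mul_mem_cancel_left _ (mc.2 (h.comm v ι))).1 s1
    have h3 : e v ∈ centralizer {j} :=
      (Subgroup.mul_mem_cancel_right _ (mc.2 ((Commute.refl j).zpow_left k))).1 s2
    refine mul_mem ?_ (TwoGrp.Bic.zpow_even_mem (Int.not_odd_iff_even.1
      fun hk => j1 (TwoGrp.Bic.mem_of_odd h.pg hk h2)) (hq ▸ mem_zpowers _))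
    rcases hy.uniq v (h.V_of_commute hj hN (mc.1 h3).symm) with rfl | rfl
    · rw [h.zero]; exact one_mem _
    · exact mem_zpowers _
  obtain ⟨u, hu, hu'⟩ := exists_gen_mod (C := centralizer {e ι} ⊓ centralizer {j})
    fun s _ => (h.mod_D hN).2 s
  have hu'' : ∀ s ∈ centralizer {e ι} ⊓ centralizer {j}, s ∈ zpowers u ⊔ zpowers (e z) :=
    fun s hs => by
      obtain ⟨k, hk⟩ := hu' s hs
      rw [← mul_inv_cancel_left (u ^ k) s]
      exact mul_mem_sup (zpow_mem (mem_zpowers u) k)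
        (hCD _ (mul_mem (inv_mem (zpow_mem hu k)) hs) hk)
  have hcases : ∀ q ∈ Q, q ∈ centralizer {e ι} ⊓ centralizer {j} ∨
      (e ι)⁻¹ * q ∈ centralizer {e ι} ⊓ centralizer {j} ∨
      j⁻¹ * q ∈ centralizer {e ι} ⊓ centralizer {j} ∨
      (e ι * j)⁻¹ * q ∈ centralizer {e ι} ⊓ centralizer {j} := fun q hq =>
    cases_of_ix (E := Q) (K := (centralizer {e ι}).subgroupOf Q) (L := (centralizer {j}).subgroupOf Q)
      (fun a b => hK a a.2 b b.2) (fun a b => hL a a.2 b b.2) (i := ⟨_, hiQ⟩) (j := ⟨j, hjQ⟩)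
      (mc.2 (Commute.refl _)) i2 j1 (mc.2 (Commute.refl _)) ⟨q, hq⟩
  have hle : ∀ T : Subgroup P, centralizer {e ι} ⊓ centralizer {j} ≤ T → e ι ∈ T → j ∈ T → Q ≤ T :=
    fun T a b d q hq => by
      rcases hcases q hq with h2 | h2 | h2 | h2
      · exact a h2
      · simpa using mul_mem b (a h2)
      · simpa using mul_mem d (a h2)
      · simpa [mul_assoc] using mul_mem (mul_mem b d) (a h2)
  have hCR : centralizer {e ι} ⊓ centralizer {j} ≤ R := fun s hs =>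
    hc ⟨mem_top s, fun r hr => mc.1 (hle (centralizer {s}) (fun s' hs' => mc.2 (comm_of_cyc
      (fun s _ => (h.mod_D hN).2 s) (fun s hs hs' r _ => by
        obtain ⟨k, rfl⟩ := hCD s hs hs'
        exact ((hz r).zpow_right k).symm) hs' hs)) (mc.2 (mc.1 hs.1).symm) (mc.2 (mc.1 hs.2).symm)
      (hR.le hr))⟩
  obtain ⟨ε, e1, e2, e3⟩ : ∃ ε : P, ε ^ 2 = e z ∧ Commute u ε ∧ ∀ r ∈ R,
      r ∈ centralizer {e ι} ⊓ centralizer {j} ∨ ε⁻¹ * r ∈ centralizer {e ι} ⊓ centralizer {j} := by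
    have h2 : ∀ y r : P, r ∈ R → y⁻¹ * r ∈ centralizer {e ι} ⊓ centralizer {j} → y ∈ R :=
      fun y r hr hh => by simpa using mul_mem hr (inv_mem (hCR hh))
    have h3 : e ι ∈ R → j ∈ R → False := fun a b => hR.not_ge (hle R hCR a b)
    by_cases a : e ι ∈ R
    · refine ⟨e ι, hi2, mc.1 hu.1, fun r hr => ?_⟩
      rcases hcases r (hR.le hr) with h4 | h4 | h4 | h4
      exacts [Or.inl h4, Or.inr h4, (h3 a (h2 _ _ hr h4)).elim,
        (h3 a ((Subgroup.mul_mem_cancel_left _ a).1 (h2 _ _ hr h4))).elim]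
    · by_cases b : j ∈ R
      · refine ⟨j, hq, mc.1 hu.2, fun r hr => ?_⟩
        rcases hcases r (hR.le hr) with h4 | h4 | h4 | h4
        exacts [Or.inl h4, (a (h2 _ _ hr h4)).elim, Or.inr h4,
          (a ((Subgroup.mul_mem_cancel_right _ b).1 (h2 _ _ hr h4))).elim]
      · refine ⟨e ι * j, ?_, (mc.1 hu.1).mul_right (mc.1 hu.2), fun r hr => ?_⟩
        · rw [← hq, pow_two, pow_two, show e ι * j * (e ι * j) = e ι * (j * e ι * j⁻¹) * (j * j) by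
            group, hji, mul_inv_cancel, one_mul]
        · rcases hcases r (hR.le hr) with h4 | h4 | h4 | h4
          exacts [Or.inl h4, (a (h2 _ _ hr h4)).elim, (b (h2 _ _ hr h4)).elim, Or.inr h4]
  have hR' : R ≤ zpowers u ⊔ zpowers ε := fun r hr => by
    have h2 : zpowers u ⊔ zpowers (e z) ≤ zpowers u ⊔ zpowers ε :=
      sup_le_sup_left (zpowers_le.2 (e1 ▸ pow_mem (mem_zpowers ε) 2)) _
    rcases e3 r hr with h3 | h3
    · exact h2 (hu'' r h3)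
    · simpa using mul_mem (mem_sup_right (mem_zpowers ε)) (h2 (hu'' _ h3))
  have hab : ∀ a ∈ zpowers u ⊔ zpowers ε, ∀ b ∈ zpowers u ⊔ zpowers ε, a * b = b * a := by
    have h2 : ∀ a, Commute u a → Commute ε a → zpowers u ⊔ zpowers ε ≤ centralizer {a} :=
      fun a a1 a2 => sup_le (zpowers_le.2 (mc.2 a1)) (zpowers_le.2 (mc.2 a2))
    exact fun a ha b hb => mc.1 (h2 b (mc.1 (h2 u (Commute.refl u) e2.symm hb)).symm
      (mc.1 (h2 ε e2 (Commute.refl ε) hb)).symm ha)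
  have hm : IsMetacyclic (zpowers u ⊔ zpowers ε : Subgroup P) := BG.metacyclic_iff.2
    ⟨u, mem_sup_left (mem_zpowers u), ε, mem_sup_right (mem_zpowers ε), fun g hg =>
      mem_normalizer_of_conj_mem fun y hy => by
        rwa [hab g hg y (mem_sup_left hy), mul_inv_cancel_right], rfl⟩
  have hzR : e z ∈ R := hCR ⟨mc.2 (hz _).symm, mc.2 (hz _).symm⟩
  refine TwoGrp.extAut_eq_of_fix_invol (h.pg.to_subgroup R)
    (fun a ha b hb => hab a (hR' ha) b (hR' hb)) hβ fun v hv v2 => ?_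
  have hf := isHomOn_extAut β
  by_cases v1 : v = 1
  · rw [v1, hf.map_one]
  by_cases vz : v = e z
  · rw [vz, hβz]
  obtain ⟨V, hV, hV'⟩ := TwoGrp.exists_kleinFour v2 hz2 (hz v) v1 hz1 vz
  have hVR : V ≤ R := fun g hg => by
    rcases (hV' g).1 hg with rfl | rfl | rfl | rfl
    exacts [one_mem _, hv, hzR, mul_mem hv hzR]
  have h2 := TwoGrp.mem_of_pRankLE' (TwoGrp.Bic.pRankLE_of_isMetacyclic hm) hV (hVR.trans hR')
    (hR' (extAut_mem β hv)) (by rw [← hf.map_mul hv hv, v2, hf.map_one])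
    fun a ha => hab _ (hR' (extAut_mem β hv)) a (hR' (hVR ha))
  rcases (hV' _).1 h2 with h3 | h3 | h3 | h3
  · exact absurd (injOn_extAut β R hv (one_mem R) (h3.trans hf.map_one.symm)) v1
  · exact h3
  · exact absurd (injOn_extAut β R hv hzR (h3.trans hβz.symm)) vz
  · exact fix_of_mul h.pg hβ hv (by rw [h3, inv_mul_cancel_left, hβz])

end Su

theorem Su.exists_ne_inner (h : Su e ρ ξ c x M N N') (hc : IsCyclic (commutator P)) :
    ∃ F : FusionSystem (⊤ : Subgroup P), F.IsSaturated 2 ∧ F ≠ innerFusionSystem ⊤ := by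
  obtain ⟨z, hy⟩ := h.cy hc
  by_cases hq : ∃ w ∈ M, w ∉ N ∧ w ^ 2 = e z
  · obtain ⟨w, h1, h2, h3⟩ := hq
    exact h.quaternion hy h1 h2 h3
  · exact h.dihedral hy fun w h1 h2 h3 => hq ⟨w, h1, h2, h3⟩

end CfsgLib.Bicyc3
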