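import Mathlib
import Cfsg.Agent.Lib.Bicyc3.Su
import Cfsg.Agent.Lib.SolvStruct.Factor
import Cfsg.Agent.Lib.BG.S4b_2

/-! A nonmetacyclic bicyclic `2`-group has the structure `Su`. -/

set_option autoImplicit false
set_option linter.unusedSectionVars false

namespace CfsgLib.Bicyc3

open Subgroup TwoGrp.Bic
open scoped commutatorElement IsMulCommutative

universe u

variable {P : Type u} [Group P]

theorem sq_eq_one_of_class_two {x y : P} (hc : ∀ g k l : P, Commute ⁅g, k⁆ l)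
    (h2 : ∀ g k : P, ⁅g, k⁆ ^ 2 = 1) {i j : ℤ}
    (h : ⁅x, y⁆ = (x ^ 2) ^ (2 * i + 1) * (y ^ 2) ^ (2 * j + 1)) :
    (x ^ (2 * i + 1) * y ^ (2 * j + 1)) ^ 2 = 1 := by
  have h1 : ∀ g k : P, Commute (g ^ 2) k := fun g k => by
    rw [← commutatorElement_eq_one_iff_commute, ← h2 g k]
    calc ⁅g ^ 2, k⁆ = g * ⁅g, k⁆ * g⁻¹ * ⁅g, k⁆ := by
          simp only [commutatorElement_def, pow_two]; group
      _ = _ := by rw [← (hc g k g).eq, mul_inv_cancel_right, pow_two]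
  have hs : ∀ g, Commute ((x ^ 2) ^ i * (y ^ 2) ^ j) g := fun g =>
    ((h1 x g).zpow_left i).mul_left ((h1 y g).zpow_left j)
  have e1 : x ^ (2 * i + 1) * y ^ (2 * j + 1) = (x ^ 2) ^ i * (y ^ 2) ^ j * (x * y) := by
    rw [zpow_add_one, zpow_add_one, zpow_two_mul, zpow_two_mul, mul_assoc, mul_assoc,
      ← mul_assoc x, ← ((h1 y x).zpow_left j).eq, mul_assoc]
  have e2 : ⁅x, y⁆ = ((x ^ 2) ^ i * (y ^ 2) ^ j) ^ 2 * (x ^ 2 * y ^ 2) := by
    rw [h, ((h1 x _).zpow_left i).mul_pow, zpow_add_one, zpow_add_one, mul_comm 2 i, mul_comm 2 j,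
      zpow_mul, zpow_mul, zpow_ofNat, zpow_ofNat, mul_assoc, mul_assoc, ← mul_assoc (x ^ 2),
      (h1 x _).eq, mul_assoc]
  have e3 : (x * y) ^ 2 = ⁅y, x⁆ * (x ^ 2 * y ^ 2) := by
    calc (x * y) ^ 2 = x * ⁅y, x⁆ * x * y ^ 2 := by
          simp only [commutatorElement_def, pow_two]; group
      _ = _ := by rw [← (hc y x x).eq, pow_two x]; simp only [mul_assoc]
  rw [e1, (hs _).mul_pow, e3, ← mul_assoc, ← (hc y x _).eq, mul_assoc, ← e2,
    ← commutatorElement_inv, inv_mul_cancel]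

variable [Finite P]

theorem gen_induction {x b : P} (ht : B x b = ⊤) {p : P → Prop} (h1 : p 1)
    (hm : ∀ g k, p g → p k → p (g * k)) (hx : p x) (hb : p b) (g : P) : p g := by
  let K : Subgroup P :=
    { carrier := {g | p g}
      one_mem' := h1
      mul_mem' := fun h h' => hm _ _ h h'
      inv_mem' := fun {g} hg => by
        have : ∀ n : ℕ, p (g ^ n) := fun n => by
          induction n with
          | zero => simpa
          | succ n ih => rw [pow_succ]; exact hm _ _ ih hg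
        obtain ⟨n, hn⟩ := (mem_powers_iff_mem_zpowers (x := g) (y := g⁻¹)).2
          (inv_mem (mem_zpowers g))
        exact hn ▸ this n }
  exact B_le (H := K) hx hb (ht ▸ mem_top g)

/-- The group theoretic part. -/
structure Pre (x b : P) (M N N' : Subgroup P) : Prop where
  comm : IsMulCommutative (commutator P)
  top : B x b = ⊤
  iM : M.index = 2
  iN : N.index = 2
  iN' : N'.index = 2
  rel : ∀ g, g ∈ N' ↔ (g ∈ M ↔ g ∈ N)
  xN : x ∈ N
  xM : x ∉ M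
  bM : b ∈ M
  bN : b ∉ N
  phi : ∀ g ∈ M, g ∈ N → ∃ k : ℤ, ((x ^ 2) ^ k)⁻¹ * g ∈ commutator P
  sq : x ^ 2 ∉ commutator P
  bsq : ∀ K : Subgroup P, K.Normal → (∀ g k l : P, ⁅⁅g, k⁆, l⁆ ∈ K) → (∀ g k : P, ⁅g, k⁆ ^ 2 ∈ K) →
    b ^ 2 ∈ K
  mN : Cfsg.IsMetacyclic N
  mN' : Cfsg.IsMetacyclic N'

theorem exists_pre (hP : IsPGroup 2 P) {x y : P} (h : ∀ g : P, ∃ i j : ℤ, g = x ^ i * y ^ j)
    (hm : ¬ Cfsg.IsMetacyclic P) : ∃ b M N N', Pre x b M N N' := by
  obtain ⟨ht, hl⟩ := lev_top h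
  have h' : ∀ g : P, ∃ i j : ℤ, g = y ^ i * x ^ j := fun g =>
    hl.bi.symm g (mem_symm (ht ▸ mem_top g))
  have hmt : ∀ K : Subgroup P, Cfsg.IsMetacyclic K → x ∈ K → y ∈ K → False := fun K hK a b => by
    obtain rfl : K = ⊤ := top_le_iff.1 (ht ▸ B_le a b)
    exact hm (PGroup.isMetacyclic_of_equiv topEquiv hK)
  have mN := hl.isMetacyclic hP
  have mN' : Cfsg.IsMetacyclic (B (x ^ 2) y) := B_comm y (x ^ 2) ▸ hl.symm.isMetacyclic hP
  have yN : y ∉ B x (y ^ 2) := hmt _ mN left_mem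
  have xN' : x ∉ B (x ^ 2) y := fun hx => hmt _ mN' hx right_mem
  have iN : (B x (y ^ 2)).index = 2 := index_eq_two_iff_exists_notMem_and'.2
    ⟨y⁻¹, by simpa using yN, fun g => ((hl.bi.symm.cases (mem_symm (ht ▸ mem_top g))).imp
      mem_symm mem_symm).symm⟩
  have iN' : (B (x ^ 2) y).index = 2 := index_eq_two_iff_exists_notMem_and'.2
    ⟨x⁻¹, by simpa using xN', fun g => (hl.bi.cases (ht ▸ mem_top g)).symm⟩
  let M : Subgroup P :=
    { carrier := {g | g ∈ B x (y ^ 2) ↔ g ∈ B (x ^ 2) y}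
      one_mem' := iff_of_true (one_mem _) (one_mem _)
      mul_mem' := fun {a b} ha hb => by
        simp only [Set.mem_ofPred_eq, mul_mem_iff_of_index_two iN, mul_mem_iff_of_index_two iN']
          at ha hb ⊢
        rw [ha, hb]
      inv_mem' := fun {a} ha => by simpa using ha }
  have hM : ∀ g, g ∈ M ↔ (g ∈ B x (y ^ 2) ↔ g ∈ B (x ^ 2) y) := fun g => Iff.rfl
  have hΦ : ∀ g ∈ B x (y ^ 2), g ∈ B (x ^ 2) y → g ∈ B (x ^ 2) (y ^ 2) := fun g a b => by
    rcases coset_cases hP h g with h1 | h1 | h1 | h1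
    · exact h1
    · exact absurd (by simpa [mul_mem_iff_of_index_two iN', b] using sq_le_right h1) xN'
    · exact absurd (by simpa [mul_mem_iff_of_index_two iN, a] using sq_le_left h1) yN
    · exact absurd (by simpa [mul_mem_iff_of_index_two iN, a, left_mem] using sq_le_left h1) yN
  obtain ⟨i, j, hc⟩ := (hl.sq hP).bi _ (hl.comm hP x (k := y) right_mem)
  have hi : Odd i := Int.not_even_iff_odd.1 fun hi => hmt _ (hl.bi.isMetacyclic hP (hc ▸ mul_mem
    (zpow_even_mem hi left_mem) (zpow_mem right_mem j))) left_mem right_mem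
  have hj : Odd j := Int.not_even_iff_odd.1 fun hj => hmt _ (hl.bi.symm.isMetacyclic hP (by
    rw [← commutatorElement_inv, hc]
    exact inv_mem (mul_mem (zpow_mem right_mem i) (zpow_even_mem hj left_mem)))) right_mem left_mem
  have odd_mem : ∀ (K : Subgroup P) (g : P) (k : ℤ), Odd k → g ∉ K → g ^ k ∉ K :=
    fun K g k hk hg h => hg (mem_of_odd hP hk h)
  have bN : x ^ i * y ^ j ∉ B x (y ^ 2) := fun hb =>
    odd_mem _ _ _ hj yN ((Subgroup.mul_mem_cancel_left _ (zpow_mem left_mem i)).1 hb)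
  have bN' : x ^ i * y ^ j ∉ B (x ^ 2) y := fun hb =>
    odd_mem _ _ _ hi xN' ((Subgroup.mul_mem_cancel_right _ (zpow_mem right_mem j)).1 hb)
  have hcm : ⁅x, y⁆ ∈ commutator P := commutator_mem_commutator (mem_top x) (mem_top y)
  refine ⟨x ^ i * y ^ j, M, B x (y ^ 2), B (x ^ 2) y, ?_, ?_, ?_, iN, iN', fun g => ?_, left_mem,
    fun hx => xN' (hx.1 left_mem), iff_of_false bN bN', bN, fun g a b => ?_, fun hx => ?_,
    fun K hK h1 h2 => ?_, mN, mN'⟩
  · refine SolvStruct.IsFactor.commutator_isMulCommutative (A := zpowers x) (B := zpowers y)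
      fun g => ?_
    obtain ⟨i, j, rfl⟩ := h g
    exact ⟨_, ⟨i, rfl⟩, _, ⟨j, rfl⟩, rfl⟩
  · refine top_le_iff.1 (ht ▸ B_le left_mem (mem_of_odd hP hj ?_))
    exact (Subgroup.mul_mem_cancel_left _ (zpow_mem left_mem i)).1 right_mem
  · refine index_eq_two_iff_exists_notMem_and'.2 ⟨x, fun hx => xN' (hx.1 left_mem), fun g => ?_⟩
    simp only [hM, mul_mem_iff_of_index_two iN, mul_mem_iff_of_index_two iN', xN', left_mem]
    tauto
  · rw [hM]; tauto
  · have h1 : B (x ^ 2) (y ^ 2) ≤ zpowers (x ^ 2) ⊔ commutator P := by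
      refine B_le (mem_sup_left (mem_zpowers _)) (mem_of_odd hP hj ?_)
      rw [← Subgroup.mul_mem_cancel_left _ (mem_sup_left (zpow_mem (mem_zpowers (x ^ 2)) i)), ← hc]
      exact mem_sup_right hcm
    obtain ⟨_, ⟨k, rfl⟩, z, hz, rfl⟩ := mem_sup_of_normal_right.1 (h1 (hΦ g b (a.1 b)))
    exact ⟨k, by simpa using hz⟩
  · have hL := ((hl.sq hP).sq hP).n0
    have hcΦ := hl.comm hP x (k := y) right_mem
    have hn : (zpowers ⁅x, y⁆ ⊔ B ((x ^ 2) ^ 2) ((y ^ 2) ^ 2)).Normal := ⟨fun g hg k => by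
      have h1 := (hl.sq hP).comm hP k
        (sup_le (zpowers_le.2 hcΦ) sq_le hg)
      have := mul_mem (mem_sup_right h1 : _ ∈ zpowers ⁅x, y⁆ ⊔ _) hg
      simpa [commutatorElement_def] using this⟩
    obtain ⟨_, ⟨k, rfl⟩, z, hz, e⟩ := mem_sup_of_normal_right.1
      (der_le (D := zpowers ⁅x, y⁆ ⊔ B ((x ^ 2) ^ 2) ((y ^ 2) ^ 2)) ht
        (mem_sup_left (mem_zpowers _)) hx)
    have h2 := (hl.sq hP).bi.sq_mem hP hcΦ
    rcases Int.even_or_odd' k with ⟨k, rfl | rfl⟩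
    · have := mul_mem (zpow_even_mem (even_two_mul k) h2) hz
      exact sq_notMem hP h hm (by rwa [show ⁅x, y⁆ ^ (2 * k) * z = x ^ 2 from e] at this)
    · refine sq_notMem hP h' hm (mem_symm (mem_of_odd hP hj ?_))
      have h3 : (x ^ 2)⁻¹ * ⁅x, y⁆ ∈ B ((x ^ 2) ^ 2) ((y ^ 2) ^ 2) := by
        have := mul_mem (inv_mem hz) (inv_mem (zpow_even_mem (even_two_mul k) h2))
        rwa [show z⁻¹ * (⁅x, y⁆ ^ (2 * k))⁻¹ = (⁅x, y⁆ ^ (2 * k + 1) * z)⁻¹ * ⁅x, y⁆ by
            generalize ⁅x, y⁆ = u; group,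
          show ⁅x, y⁆ ^ (2 * k + 1) * z = x ^ 2 from e] at this
      obtain ⟨i, rfl⟩ := hi
      rw [hc, ← mul_assoc, show (x ^ 2)⁻¹ * (x ^ 2) ^ (2 * i + 1) = (x ^ 2) ^ (2 * i) by group] at h3
      exact (Subgroup.mul_mem_cancel_left _ (zpow_even_mem (even_two_mul i) left_mem)).1 h3
  · obtain ⟨i, rfl⟩ := hi
    obtain ⟨j, rfl⟩ := hj
    have := sq_eq_one_of_class_two (x := QuotientGroup.mk' K x) (y := QuotientGroup.mk' K y)
      (i := i) (j := j) (fun g k l => ?_) (fun g k => ?_)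
      (by rw [← map_commutatorElement, hc]; simp only [map_mul, map_zpow, map_pow])
    · rw [← QuotientGroup.eq_one_iff, ← this]
      simp only [QuotientGroup.mk'_apply, QuotientGroup.mk_pow, QuotientGroup.mk_mul,
        QuotientGroup.mk_zpow]
    · obtain ⟨g, rfl⟩ := QuotientGroup.mk'_surjective K g
      obtain ⟨k, rfl⟩ := QuotientGroup.mk'_surjective K k
      obtain ⟨l, rfl⟩ := QuotientGroup.mk'_surjective K l
      rw [← commutatorElement_eq_one_iff_commute, ← map_commutatorElement, ← map_commutatorElement]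
      exact (QuotientGroup.eq_one_iff _).2 (h1 g k l)
    · obtain ⟨g, rfl⟩ := QuotientGroup.mk'_surjective K g
      obtain ⟨k, rfl⟩ := QuotientGroup.mk'_surjective K k
      rw [← map_commutatorElement, ← map_pow]
      exact (QuotientGroup.eq_one_iff _).2 (h2 g k)

theorem exists_mo (hP : IsPGroup 2 P) (hc : IsMulCommutative (commutator P)) :
    ∃ (W : Type u) (_ : AddCommGroup W) (e : W → P) (ρ : P → Module.End ℤ W), Mo e ρ :=
  ⟨Additive (commutator P), inferInstance, fun a => (a.toMul : commutator P),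
    fun g => (MonoidHom.toAdditive (MulAut.conjNormal g : MulAut (commutator P)).toMonoidHom
      ).toIntLinearMap,
    hP, fun _ _ => rfl, fun _ _ h => Additive.toMul.injective (Subtype.ext h), fun _ _ => rfl,
    fun g => ⟨fun h => ⟨Additive.ofMul ⟨g, h⟩, rfl⟩, fun ⟨a, ha⟩ => ha ▸ a.toMul.2⟩⟩

theorem Pre.su {x b : P} {M N N' : Subgroup P} (hp : Pre x b M N N') (hm : ¬ Cfsg.IsMetacyclic P)
    {W : Type*} [AddCommGroup W] {e : W → P} {ρ : P → Module.End ℤ W} (h : Mo e ρ) :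
    ∃ ξ c, Su e ρ ξ c x M N N' := by
  obtain ⟨ξ, xi⟩ : ∃ ξ : Module.End ℤ W, ∀ a, ρ x a = a + ξ a := ⟨ρ x - 1, fun a => by simp⟩
  have xi' : ∀ a, ξ a = ρ x a - a := fun a => by rw [xi]; abel
  have hρ : ∀ g a, ρ g (ξ a) = ξ (ρ g a) := fun g a => by rw [xi', xi', map_sub, h.rho_comm]
  obtain ⟨c, hc⟩ := h.der x b
  have hcm : ∀ g k : P, ⁅g, k⁆ ∈ commutator P := fun g k =>
    commutator_mem_commutator (mem_top g) (mem_top k)
  obtain ⟨β, hβ⟩ := (h.rng _).1 (hp.bsq _ inferInstance (fun _ _ _ => hcm _ _)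
    fun _ _ => pow_mem (hcm _ _) 2)
  have hb : ρ b c = -c + ξ β := by
    have h1 : e (ρ x β) = e (c + ρ b c + β) := by
      rw [← h.conj, h.add, h.add, ← h.conj, hβ, ← conj_pow, hc, pow_two, pow_two]; group
    have := h.inj h1
    rw [xi] at this
    linear_combination (norm := module) -this
  have gen0 : ∀ a, ∃ (i : ℤ) (a' : W), a = i • c + ξ a' := by
    let T : AddSubgroup W := AddSubgroup.zmultiples c ⊔ (LinearMap.range ξ).toAddSubgroup
    have hT : ∀ a, a ∈ T ↔ ∃ (i : ℤ) (a' : W), a = i • c + ξ a' := fun a => by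
      rw [AddSubgroup.mem_sup]
      exact ⟨by rintro ⟨_, ⟨i, rfl⟩, _, ⟨a', rfl⟩, rfl⟩; exact ⟨i, a', rfl⟩,
        by rintro ⟨i, a', rfl⟩; exact ⟨_, ⟨i, rfl⟩, _, ⟨a', rfl⟩, rfl⟩⟩
    have := h.normal_im (T := T) (gen_induction hp.top (fun a ha => by rwa [h.rho_one])
      (fun g k hg hk a ha => h.rho_mul g k a ▸ hg _ (hk a ha)) (fun a ha => ?_) fun a ha => ?_)
    · intro a
      refine (hT a).1 (h.mem_im.1 (der_le (D := h.im T) hp.top ?_ (h.mem a)))
      rw [commutatorElement_def, hc, mul_inv_cancel_right]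
      exact h.mem_im.2 ((hT c).2 ⟨1, 0, by simp⟩)
    · obtain ⟨i, a', rfl⟩ := (hT a).1 ha
      exact (hT _).2 ⟨i, a' + (i • c + ξ a'), by rw [xi]; simp only [map_add]; abel⟩
    · obtain ⟨i, a', rfl⟩ := (hT a).1 ha
      exact (hT _).2 ⟨-i, i • β + ρ b a', by
        rw [map_add, map_zsmul, hb, hρ, map_add, map_zsmul]; module⟩
  have hcyc : IsCyclic (h.im (LinearMap.range ξ).toAddSubgroup) := by
    have := BG.metacyclic_der1_cyclic hp.mN
    refine isCyclic_of_le (H' := ⁅N, N⁆) ?_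
    rintro _ ⟨_, ⟨a, rfl⟩, rfl⟩
    rw [xi', h.sub, ← h.conj]
    exact commutator_mem_commutator hp.xN (comm_le_of_index hp.iN (h.mem a))
  obtain ⟨⟨_, _, ⟨a₁, rfl⟩, rfl⟩, hg⟩ := hcyc.exists_generator
  have hd : ∀ a, ∃ k : ℤ, ξ a = k • ξ a₁ := fun a => by
    obtain ⟨k, hk⟩ := hg ⟨_, _, ⟨a, rfl⟩, rfl⟩
    exact ⟨k, h.inj (by rw [h.zsmul]; exact (congrArg Subtype.val hk).symm)⟩
  obtain ⟨μ, hμ⟩ : ∃ μ : ℤ, ξ (ξ a₁) = (2 * μ) • ξ a₁ := by
    obtain ⟨m, hm⟩ := hd (ξ a₁)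
    rcases Int.even_or_odd' m with ⟨m, rfl | rfl⟩
    · exact ⟨m, hm⟩
    · have h1 : ∀ n : ℕ, ρ (x ^ n) (ξ a₁) = ((m + 1) ^ n * 2 ^ n) • ξ a₁ := fun n => by
        induction n with
        | zero => simp [h.rho_one]
        | succ n ih => rw [pow_succ', h.rho_mul, ih, map_zsmul, xi, hm]; module
      obtain ⟨n, hn⟩ := h.pg (e (ξ a₁))
      have h2 : ((2 : ℤ) ^ n) • ξ a₁ = 0 := h.eq_one.1 (by rw [h.zsmul]; exact_mod_cast hn)
      have h3 : ξ a₁ = 0 := h.rho_eq_zero (g := x ^ n) (by rw [h1, mul_smul, h2, smul_zero])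
      exact ⟨0, by simp [h3]⟩
  have xi2 : ∀ a, ξ (ξ a) = (2 * μ) • ξ a := fun a => by
    obtain ⟨k, hk⟩ := hd a
    rw [hk, map_zsmul, hμ, smul_comm]
  have gen : ∀ a, ∃ i j : ℤ, a = i • c + j • ξ c := by
    obtain ⟨i, a', e1⟩ := gen0 a₁
    obtain ⟨k, hk⟩ := hd a'
    obtain ⟨m, hm⟩ := h.exists_smul_of_odd (k := 1 - 2 * (μ * k)) (l := i) (a := ξ a₁) (d := ξ c)
      (odd_one.sub_even (even_two_mul _)) (by
        have := congrArg ξ e1
        rw [map_add, map_zsmul, xi2, hk] at this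
        linear_combination (norm := module) this)
    intro a
    obtain ⟨i, a', rfl⟩ := gen0 a
    obtain ⟨k, hk⟩ := hd a'
    exact ⟨i, k * m, by rw [hk, hm, mul_smul]⟩
  obtain ⟨ν, hν⟩ : ∃ ν : ℤ, ∀ a, ρ b a = -a + (2 * ν) • ξ a := by
    let T : AddSubgroup W := (LinearMap.range ((2 : ℤ) • (1 : Module.End ℤ W))).toAddSubgroup ⊔
      (LinearMap.range ξ).toAddSubgroup
    have hT : ∀ a, a ∈ T ↔ ∃ a' a'' : W, a = (2 : ℤ) • a' + ξ a'' := fun a => by
      rw [AddSubgroup.mem_sup]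
      exact ⟨by rintro ⟨_, ⟨i, rfl⟩, _, ⟨a', rfl⟩, rfl⟩; exact ⟨i, a', rfl⟩,
        by rintro ⟨i, a', rfl⟩; exact ⟨_, ⟨i, rfl⟩, _, ⟨a', rfl⟩, rfl⟩⟩
    have h1 : ∀ g a, ρ g a - a ∈ T := gen_induction hp.top (fun a => by simp [h.rho_one])
      (fun g k hg hk a => by
        simpa [h.rho_mul] using add_mem (hg (ρ k a)) (hk a))
      (fun a => (hT _).2 ⟨0, a, by simp [xi]⟩) fun a => by
        obtain ⟨i, a', rfl⟩ := gen0 a
        exact (hT _).2 ⟨-(i • c), i • β + ρ b a' - a', by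
          simp only [map_add, map_sub, map_zsmul, hb, hρ]; module⟩
    have h2 := hp.bsq (h.im T) (h.normal_im fun g a ha => by simpa using add_mem (h1 g a) ha)
      (fun g k l => ?_) fun g k => ?_
    · rw [← hβ, h.mem_im, hT] at h2
      obtain ⟨a', a'', h2⟩ := h2
      obtain ⟨i, j, e1⟩ := gen (a' + μ • a'')
      have h3 : ρ b c = -c + (2 * (i + j * (2 * μ))) • ξ c := by
        have := congrArg ξ e1
        rw [map_add, map_add, map_zsmul, map_zsmul, map_zsmul, xi2] at this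
        rw [hb, h2, map_add, map_zsmul, xi2]
        linear_combination (norm := module) (2 : ℤ) • this
      refine ⟨i + j * (2 * μ), fun a => ?_⟩
      obtain ⟨k, l, rfl⟩ := gen a
      simp only [map_add, map_zsmul, hρ, h3, map_neg]
      module
    · obtain ⟨a, ha⟩ := (h.rng _).1 (hcm g k)
      rw [← ha, ← commutatorElement_inv, commutatorElement_def, h.conj, ← h.sub, inv_mem_iff]
      exact h.mem_im.2 (h1 l a)
    · obtain ⟨a, ha⟩ := (h.rng _).1 (hcm g k)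
      rw [← ha, ← h.two]
      exact h.mem_im.2 ((hT _).2 ⟨a, 0, by simp⟩)
  have phi : ∀ g ∈ M, g ∈ N → ∃ (k : ℤ) (a : W), g = (x ^ 2) ^ k * e a := fun g a b => by
    obtain ⟨k, hk⟩ := hp.phi g a b
    obtain ⟨a, ha⟩ := (h.rng _).1 hk
    exact ⟨k, a, by rw [ha, mul_inv_cancel_left]⟩
  have inn : ∀ g ∈ M, g ∈ N → ∃ ν : ℤ, ∀ a, ρ g a = a + (2 * ν) • ξ a := fun g a b => by
    obtain ⟨k, a, rfl⟩ := phi g a b
    obtain ⟨n, hn⟩ := (mem_powers_iff_mem_zpowers (x := x ^ 2)).2 (zpow_mem (mem_zpowers _) k)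
    simp only [← hn, h.rho_mul, h.rho_e]
    clear hn
    induction n with
    | zero => exact ⟨0, fun a => by simp [h.rho_one]⟩
    | succ n ih =>
      obtain ⟨κ, hκ⟩ := ih
      refine ⟨κ + (1 + μ) * (1 + 4 * κ * μ), fun a => ?_⟩
      rw [pow_succ', h.rho_mul, hκ, pow_two, h.rho_mul]
      simp only [xi, map_add, map_zsmul, xi2]
      module
  have hbN : ∀ w ∈ M, w ∉ N → w * b⁻¹ ∈ M ∧ w * b⁻¹ ∈ N := fun w h1 h2 =>
    ⟨mul_mem h1 (inv_mem hp.bM), by simp [mul_mem_iff_of_index_two hp.iN, h2, hp.bN]⟩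
  refine ⟨ξ, c, h, hp.iM, hp.iN, hp.iN', hp.rel, hp.xN, hp.xM, phi, fun g hg a ha => hp.sq ?_,
    ⟨b, hp.bM, hp.bN, β, hβ.symm⟩, hp.mN, hp.mN', hm, xi, ⟨μ, xi2⟩, gen, fun w h1 h2 => ?_, inn⟩
  · have hq : ∀ g : P, g ∈ commutator P ↔ Abelianization.of g = 1 := fun g => by
      rw [← MonoidHom.mem_ker, Abelianization.ker_of]
    have he : ∀ a, Abelianization.of (e a) = 1 := fun a => (hq _).1 (h.mem a)
    have h0 : ∀ g ∉ M, g ∈ N → Abelianization.of g ^ 2 = 1 → x ^ 2 ∈ commutator P :=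
      fun g h1 h2 h3 => by
        obtain ⟨k, a, e1⟩ := phi (x⁻¹ * g) (by simp [mul_mem_iff_of_index_two hp.iM, h1, hp.xM])
          (mul_mem (inv_mem hp.xN) h2)
        refine mem_of_odd h.pg (i := 2 * k + 1) (odd_two_mul_add_one k) ((hq _).2 ?_)
        rw [inv_mul_eq_iff_eq_mul] at e1
        rw [← h3, e1]
        simp only [map_mul, map_zpow, map_pow, he, mul_one, mul_pow]
        group
    have h1 : Abelianization.of g ^ 2 = 1 := by rw [← map_pow, ha, he]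
    by_cases hN : g ∈ N
    · exact h0 g hg hN h1
    · refine h0 (g * b) (by simp [mul_mem_iff_of_index_two hp.iM, hg, hp.bM])
        (by simp [mul_mem_iff_of_index_two hp.iN, hN, hp.bN]) ?_
      rw [map_mul, mul_pow, h1, ← map_pow, ← hβ, he, one_mul]
  · obtain ⟨κ, hκ⟩ := inn _ (hbN w h1 h2).1 (hbN w h1 h2).2
    refine ⟨⟨ν - κ + 4 * κ * ν * μ, fun a => ?_⟩, ?_⟩
    · rw [← inv_mul_cancel_right w b, h.rho_mul, hκ, hν]
      simp only [map_add, map_neg, map_zsmul, xi2]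
      module
    · obtain ⟨k, a, e1⟩ := phi _ (hbN w h1 h2).1 (hbN w h1 h2).2
      obtain ⟨i, j, e2⟩ := gen (a + (2 * κ) • (c + ξ a))
      refine ⟨i + j * (2 * μ), ?_⟩
      have e3 : c + (i + j * (2 * μ)) • ξ c = ρ (w * b⁻¹) (ξ a + c) := by
        have := congrArg ξ e2
        simp only [map_add, map_zsmul, xi2] at this
        simp only [hκ, map_add, xi2]
        linear_combination (norm := module) -this
      have e4 : x * (w * b⁻¹) * x⁻¹ = w * b⁻¹ * e (ξ a) := by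
        rw [e1, xi', h.sub, ← h.conj, mul_assoc _ (e a), ← mul_assoc (e a), ← mul_assoc (e a),
          ← mul_assoc (e a), mul_assoc (e a), mul_assoc (e a), h.conj, (h.comm a _).eq, ← h.conj]
        group
      rw [e3, ← h.conj, h.add, ← mul_assoc (w * b⁻¹), ← e4,
        show e c = x * b * x⁻¹ * b⁻¹ by rw [hc, mul_inv_cancel_right]]
      group

theorem exists_su (hP : IsPGroup 2 P) {x y : P} (h : ∀ g : P, ∃ i j : ℤ, g = x ^ i * y ^ j)
    (hm : ¬ Cfsg.IsMetacyclic P) : ∃ (W : Type u) (_ : AddCommGroup W) (e : W → P)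
      (ρ : P → Module.End ℤ W) (ξ : Module.End ℤ W) (c : W) (M N N' : Subgroup P),
      Su e ρ ξ c x M N N' := by
  obtain ⟨b, M, N, N', hp⟩ := exists_pre hP h hm
  obtain ⟨W, _, e, ρ, ho⟩ := exists_mo hP hp.comm
  obtain ⟨ξ, c, hs⟩ := hp.su hm ho
  exact ⟨W, _, e, ρ, ξ, c, M, N, N', hs⟩

end CfsgLib.Bicyc3
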